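import Groth.Agent.CohAff.QCohAffine
import Groth.Prelude.Def_Coh

/-!
# Quasi-coherent modules are Čech acyclic for standard coverings of affine opens
-/

universe u

open CategoryTheory Limits Opposite TopologicalSpace AlgebraicGeometry

namespace Groth.Agent.CohAff

variable {X : Scheme.{u}}

lemma inter_basicOpen {U : X.Opens} {ι : Type u} (f : ι → Γ(X, U)) {n : ℕ} (x : Fin (n + 1) → ι) :
    inter (X := X.toPresheafedSpace.carrier) (fun i ↦ X.basicOpen (f i)) x =
      X.basicOpen (∏ a, f (x a)) := by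
  apply TopologicalSpace.Opens.ext
  ext p
  simp only [SetLike.mem_coe, mem_inter]
  constructor
  · intro h
    have hp : p ∈ U := X.basicOpen_le _ (h 0)
    simp only [X.mem_basicOpen _ p hp, map_prod, IsUnit.prod_univ_iff] at h ⊢
    exact h
  · intro h
    have hp : p ∈ U := X.basicOpen_le _ h
    simp only [X.mem_basicOpen _ p hp, map_prod, IsUnit.prod_univ_iff] at h ⊢
    exact h

/-- standard coverings of affine opens -/
def affCov (X : Scheme.{u}) : CovSys X.toPresheafedSpace.carrier where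
  mem U := IsAffineOpen (X := X) U
  cov U ι V := IsAffineOpen (X := X) U ∧ Finite ι ∧
    ∃ f : ι → Γ(X, U), V = (fun i ↦ X.basicOpen (f i)) ∧ ⨆ i, V i = U
  inter_mem {U ι V} h n x := by
    obtain ⟨hU, -, f, rfl, -⟩ := h
    rw [inter_basicOpen]
    exact hU.basicOpen _
  sup_eq h := by
    obtain ⟨-, -, f, -, h⟩ := h
    exact h
  refine' {U} hU W hW := by
    choose f hfle hfmem using fun p : U ↦
      IsAffineOpen.exists_basicOpen_le (X := X) hU (⟨p.1, hW p.1 p.2⟩ : W p.1 p.2) p.2
    obtain ⟨s, hs⟩ := (IsAffineOpen.isCompact (X := X) hU).elim_finite_subcover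
      (fun p : U ↦ (X.basicOpen (f p) : Set X)) (fun p ↦ (X.basicOpen (f p)).isOpen)
      (fun p hp ↦ Set.mem_iUnion.2 ⟨⟨p, hp⟩, hfmem ⟨p, hp⟩⟩)
    refine ⟨s, fun i ↦ X.basicOpen (f i.1), ⟨hU, inferInstance, fun i ↦ f i.1, rfl, ?_⟩,
      fun i ↦ ⟨i.1.1, i.1.2, hfle i.1⟩⟩
    refine le_antisymm (iSup_le fun i ↦ X.basicOpen_le _) fun p hp ↦ ?_
    obtain ⟨q, hq, hpq⟩ := Set.mem_iUnion₂.1 (hs hp)
    exact Opens.mem_iSup.2 ⟨⟨q, hq⟩, hpq⟩

section Smul

variable (M : X.Modules) {U : X.Opens} {ι : Type u} (f : ι → Γ(X, U))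

/-- the covering by basic opens -/
abbrev bcov : ι → Opens X.toPresheafedSpace.carrier := fun i ↦ X.basicOpen (f i)

lemma inter_bcov_le {n : ℕ} (x : Fin (n + 1) → ι) : inter (bcov f) x ≤ U :=
  (inter_le (bcov f) x 0).trans (X.basicOpen_le _)

/-- scalar multiplication of a cochain by a function on `U` -/
noncomputable def csmul (r : Γ(X, U)) (n : ℕ) :
    Cochain M.presheaf (bcov f) n →+ Cochain M.presheaf (bcov f) n :=
  AddMonoidHom.mk' (fun s x ↦ rres X (inter_bcov_le f x) r • (s x : Γ(M, inter (bcov f) x)))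
    (fun _ _ ↦ funext fun _ ↦ smul_add _ _ _)

lemma csmul_apply (r : Γ(X, U)) (n : ℕ) (s : Cochain M.presheaf (bcov f) n)
    (x : Fin (n + 1) → ι) :
    csmul M f r n s x = rres X (inter_bcov_le f x) r • (s x : Γ(M, inter (bcov f) x)) := rfl

lemma cd_csmul (r : Γ(X, U)) (n : ℕ) (s : Cochain M.presheaf (bcov f) n) :
    cd M.presheaf (bcov f) n (csmul M f r n s) = csmul M f r (n + 1) (cd M.presheaf (bcov f) n s) := by
  funext x
  rw [cd_apply, csmul_apply, cd_apply]
  refine Eq.trans ?_ (Finset.smul_sum ..).symm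
  refine Finset.sum_congr rfl fun j _ ↦ ?_
  rw [smul_comm, csmul_apply]
  congr 1
  refine (mres_smul M _ _ _).trans ?_
  rw [rres_rres]

lemma sum_csmul_eq {κ : Type*} [Fintype κ] (a : κ → Γ(X, U)) (h : ∑ k, a k = 1) (n : ℕ)
    (s : Cochain M.presheaf (bcov f) n) : ∑ k, csmul M f (a k) n s = s := by
  funext x
  rw [Finset.sum_apply]
  simp only [csmul_apply]
  rw [← Finset.sum_smul, ← map_sum, h, map_one, one_smul]

lemma csmul_mul (a b : Γ(X, U)) (n : ℕ) (s : Cochain M.presheaf (bcov f) n) :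
    csmul M f (a * b) n s = csmul M f a n (csmul M f b n s) := by
  funext x
  rw [csmul_apply, csmul_apply, csmul_apply, map_mul, mul_smul]

end Smul

variable (M : X.Modules) [M.IsQuasicoherent]

lemma inter_cons_le {Y : TopCat.{u}} {ι : Type u} (V : ι → Opens Y) (k : ι) {m : ℕ}
    (x : Fin (m + 1) → ι) : inter V (Fin.cons k x : Fin (m + 2) → ι) ≤ inter V x :=
  le_inter fun a ↦ (inter_le V (Fin.cons k x : Fin (m + 2) → ι) a.succ).trans_eq (by simp)

/-- a cocycle is locally a coboundary, up to a power -/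
lemma exists_pow_csmul_eq_cd {U : X.Opens} (hU : IsAffineOpen U) {ι : Type u} [Finite ι]
    (f : ι → Γ(X, U)) {n : ℕ} (s : Cochain M.presheaf (bcov f) (n + 1))
    (hs : cd M.presheaf (bcov f) (n + 1) s = 0) (k : ι) :
    ∃ (N : ℕ) (T : Cochain M.presheaf (bcov f) n),
      cd M.presheaf (bcov f) n T = csmul M f (f k ^ N) (n + 1) s := by
  have haff : ∀ {m : ℕ} (x : Fin (m + 1) → ι), IsAffineOpen (X := X) (inter (bcov f) x) := by
    intro m x
    rw [inter_basicOpen]
    exact hU.basicOpen _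
  have hD : ∀ {m : ℕ} (x : Fin (m + 1) → ι),
      inter (bcov f) (Fin.cons k x : Fin (m + 2) → ι) =
        X.basicOpen (rres X (inter_bcov_le f x) (f k)) := by
    intro m x
    rw [X.basicOpen_res]
    refine le_antisymm (le_inf ?_ ?_) (le_inter fun a ↦ ?_)
    · exact le_inter fun a ↦ (inter_le (bcov f) (Fin.cons k x : Fin (m + 2) → ι) a.succ).trans_eq
        (by simp)
    · exact (inter_le (bcov f) (Fin.cons k x : Fin (m + 2) → ι) 0).trans_eq (by simp)
    · induction a using Fin.cases with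
      | zero => exact inf_le_right.trans_eq (by simp)
      | succ a => exact (inf_le_left.trans (inter_le (bcov f) x a)).trans_eq (by simp)
  choose ny t ht using fun y : Fin (n + 1) → ι ↦
    exists_extend M (haff y) (rres X (inter_bcov_le f y) (f k))
      (mres M (hD y).ge (s (Fin.cons k y)))
  cases nonempty_fintype ι
  let N := Finset.univ.sup ny
  let T : Cochain M.presheaf (bcov f) n := fun y ↦
    rres X (inter_bcov_le f y) (f k) ^ (N - ny y) • (t y : Γ(M, inter (bcov f) y))
  have hT : ∀ (y : Fin (n + 1) → ι),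
      mres M (inter_cons_le (bcov f) k y) (T y) =
        rres X (inter_bcov_le f (Fin.cons k y : Fin (n + 2) → ι)) (f k) ^ N •
          (s (Fin.cons k y) : Γ(M, inter (bcov f) (Fin.cons k y : Fin (n + 2) → ι))) := by
    intro y
    have h := congrArg (mres M (hD y).le) (ht y)
    rw [res_res, mres_smul, res_res, res_self, map_pow, rres_rres, rres_rres] at h
    simp only [T]
    rw [mres_smul, map_pow, rres_rres]
    refine (congrArg _ h).trans ?_
    rw [smul_smul, ← pow_add, Nat.sub_add_cancel (Finset.le_sup (Finset.mem_univ y))]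
  have hzero : ∀ x : Fin (n + 2) → ι,
      mres M (X.basicOpen_le (rres X (inter_bcov_le f x) (f k)))
        (rres X (inter_bcov_le f x) (f k ^ N) • (s x : Γ(M, inter (bcov f) x)) -
          cd M.presheaf (bcov f) n T x) = 0 := by
    intro x
    refine (show Function.Injective (mres M (hD x).le) from fun a b hab ↦ ?_) ?_
    · simpa only [res_res, res_self] using congrArg (mres M (hD x).ge) hab
    rw [map_zero, res_res, map_sub, sub_eq_zero, mres_smul, rres_rres, map_pow, cd_apply, map_sum]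
    have h0 := congrFun hs (Fin.cons k x)
    rw [cd_apply, Fin.sum_univ_succ, Pi.zero_apply, Fin.val_zero, pow_zero, one_smul] at h0
    have e0 : res M.presheaf (inter_comp_le (bcov f) (Fin.cons k x : Fin (n + 3) → ι)
        (0 : Fin (n + 3)).succAbove)
        (s ((Fin.cons k x : Fin (n + 3) → ι) ∘ (0 : Fin (n + 3)).succAbove)) =
        mres M (inter_cons_le (bcov f) k x) (s x) := by
      have hc : ∀ (y : Fin (n + 2) → ι) (_ : y = x)
          (hy : inter (bcov f) (Fin.cons k x : Fin (n + 3) → ι) ≤ inter (bcov f) y),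
          res M.presheaf hy (s y) =
            mres M (inter_cons_le (bcov f) k x) (s x) := by
        rintro y rfl hy
        rfl
      exact hc _ (by funext a; simp) _
    rw [e0] at h0
    rw [eq_neg_of_add_eq_zero_left h0, smul_neg, Finset.smul_sum, ← Finset.sum_neg_distrib]
    refine Finset.sum_congr rfl fun j _ ↦ ?_
    rw [map_zsmul, Fin.val_succ, smul_comm, ← neg_zsmul, pow_succ,
      show -((-1 : ℤ) ^ (j : ℕ) * -1) = (-1 : ℤ) ^ (j : ℕ) by ring]
    congr 1
    have hc : ∀ (y : Fin (n + 2) → ι) (_ : y = Fin.cons k (x ∘ j.succAbove))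
        (hy : inter (bcov f) (Fin.cons k x : Fin (n + 3) → ι) ≤ inter (bcov f) y)
        (hy' : inter (bcov f) (Fin.cons k x : Fin (n + 3) → ι) ≤
          inter (bcov f) (Fin.cons k (x ∘ j.succAbove) : Fin (n + 2) → ι)),
        rres X (inter_bcov_le f (Fin.cons k x : Fin (n + 3) → ι)) (f k) ^ N •
            (res M.presheaf hy (s y) : Γ(M, inter (bcov f) (Fin.cons k x : Fin (n + 3) → ι))) =
          mres M hy' (mres M (inter_cons_le (bcov f) k (x ∘ j.succAbove)) (T (x ∘ j.succAbove))) := by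
      rintro y rfl hy hy'
      rw [hT, mres_smul, map_pow, rres_rres]
    refine (hc _ ?_ _ ?_).trans ?_
    · rw [Fin.cons_comp_succ_succAbove]
      rfl
    · refine le_inter fun a ↦ ?_
      induction a using Fin.cases with
      | zero => exact (inter_le (bcov f) (Fin.cons k x : Fin (n + 3) → ι) 0).trans_eq (by simp)
      | succ a => exact (inter_le (bcov f) (Fin.cons k x : Fin (n + 3) → ι)
          (j.succAbove a).succ).trans_eq (by simp)
    · rw [res_res, res_res]
  choose m hm using fun x : Fin (n + 2) → ι ↦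
    exists_pow_smul_eq_zero M (haff x) _ _ (hzero x)
  let M' := Finset.univ.sup m
  refine ⟨M' + N, csmul M f (f k ^ M') n T, ?_⟩
  funext x
  rw [cd_csmul, csmul_apply, csmul_apply]
  have h := hm x
  have h' : rres X (inter_bcov_le f x) (f k ^ M') •
      (rres X (inter_bcov_le f x) (f k ^ N) • (s x : Γ(M, inter (bcov f) x)) -
        cd M.presheaf (bcov f) n T x) = 0 := by
    obtain ⟨d, hd⟩ := Nat.exists_eq_add_of_le' (Finset.le_sup (f := m) (Finset.mem_univ x) : m x ≤ M')
    rw [map_pow _ (f k) M', show M' = d + m x from hd, pow_add, mul_smul, h, smul_zero]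
  rw [smul_sub, sub_eq_zero, smul_smul, ← map_mul, ← pow_add] at h'
  exact h'.symm

lemma span_range_pow_eq_top' {R : Type*} [CommRing R] {κ : Type*} (f : κ → R)
    (h : Ideal.span (Set.range f) = ⊤) (N : κ → ℕ) :
    Ideal.span (Set.range fun i ↦ f i ^ N i) = ⊤ := by
  by_contra hne
  obtain ⟨m, hm, hle⟩ := Ideal.exists_le_maximal _ hne
  refine hm.ne_top (top_unique (h.ge.trans (Ideal.span_le.2 ?_)))
  rintro _ ⟨i, rfl⟩
  exact hm.isPrime.mem_of_pow_mem (N i) (hle (Ideal.subset_span ⟨i, rfl⟩))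

/-- quasi-coherent modules are acyclic for the standard coverings of affine opens -/
theorem good_affCov : (affCov X).Good (Coh.toAb M) := by
  rintro U ι V ⟨hU, hfin, f, rfl, hcov⟩ n s hs
  choose N T hT using exists_pow_csmul_eq_cd M hU f s hs
  cases nonempty_fintype ι
  have hspan : Ideal.span (Set.range f) = ⊤ := by
    rw [← IsAffineOpen.iSup_basicOpen_eq_self_iff (X := X) hU]
    exact le_antisymm (iSup_le fun i ↦ X.basicOpen_le _)
      (hcov.ge.trans (iSup_le fun i ↦ le_iSup_of_le ⟨f i, i, rfl⟩ le_rfl))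
  have h1 : Ideal.span (Set.range fun i ↦ f i ^ N i) = ⊤ := by
    exact span_range_pow_eq_top' f hspan N
  obtain ⟨a, ha⟩ := Ideal.mem_span_range_iff_exists_fun.1 (h1.ge Submodule.mem_top : (1 : Γ(X, U)) ∈ _)
  refine ⟨∑ k, csmul M f (a k) n (T k), ?_⟩
  refine (map_sum (cd M.presheaf (bcov f) n) _ _).trans ?_
  simp only [cd_csmul, hT, ← csmul_mul]
  exact sum_csmul_eq M f _ ha _ _

end Groth.Agent.CohAff
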