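import Groth.Agent.CohAff.SectDelta
import Groth.Agent.CohAff.AffineCech

/-!
# Mayer–Vietoris style vanishing for quasi-coherent modules
-/

universe u

open CategoryTheory Limits Opposite TopologicalSpace AlgebraicGeometry

namespace Groth.Agent.CohAff

section Space

variable {X : TopCat.{u}} (C : CovSys X)

/-- vanishing of cohomology of degree `n + 1` on `W` for all `C`-acyclic sheaves -/
def VanishOn (W : Opens X) (n : ℕ) : Prop := ∀ F : AbSh X, C.Good F → Lifts W (qtIter n F)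

variable {C}

lemma vanishOn_of_mem {W : Opens X} (hW : C.mem W) (n : ℕ) : VanishOn C W n :=
  fun _ hF ↦ (hF.qtIter n).sec_surjective (gdSeq_shortExact _) hW

lemma VanishOn.succ {W : Opens X} {n : ℕ} (h : VanishOn C W n) : VanishOn C W (n + 1) :=
  fun F hF ↦ h (qt F) hF.qt

lemma VanishOn.mono {W : Opens X} {n m : ℕ} (h : VanishOn C W n) (hnm : n ≤ m) :
    VanishOn C W m := by
  induction hnm with
  | refl => exact h
  | step _ ih => exact ih.succ

lemma vanishOn_bot (n : ℕ) : VanishOn C (⊥ : Opens X) n := by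
  intro F _ q
  exact ⟨0, TopCat.Sheaf.eq_of_locally_eq' (gdSeq (qtIter n F)).X₃
    (PEmpty.elim : PEmpty.{u + 1} → Opens X) ⊥ (fun i ↦ i.elim) bot_le _ _ (fun i ↦ i.elim)⟩

/-- Mayer–Vietoris -/
lemma VanishOn.sup {W₁ W₂ : Opens X} {n : ℕ} (h₁ : VanishOn C W₁ (n + 1))
    (h₂ : VanishOn C W₂ (n + 1)) (h₁₂ : VanishOn C (W₁ ⊓ W₂) n) :
    VanishOn C (W₁ ⊔ W₂) (n + 1) := by
  intro F hF q
  let S' := gdSeq (qtIter n F)
  let S := gdSeq (qtIter (n + 1) F)
  have hS : S.ShortExact := gdSeq_shortExact _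
  obtain ⟨t₁, ht₁⟩ := h₁ F hF (res S.X₃.obj le_sup_left q)
  obtain ⟨t₂, ht₂⟩ := h₂ F hF (res S.X₃.obj le_sup_right q)
  let d : S.X₂.obj.obj (op (W₁ ⊓ W₂)) :=
    res S.X₂.obj inf_le_left t₁ - res S.X₂.obj inf_le_right t₂
  obtain ⟨c, hc⟩ := sec_exact hS (s := d) (by
    have e₁ : res S.X₃.obj inf_le_left (sec S.g W₁ t₁) =
        res S.X₃.obj (inf_le_left.trans le_sup_left : W₁ ⊓ W₂ ≤ W₁ ⊔ W₂) q := by
      rw [ht₁, res_res]
    have e₂ : res S.X₃.obj inf_le_right (sec S.g W₂ t₂) =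
        res S.X₃.obj (inf_le_left.trans le_sup_left : W₁ ⊓ W₂ ≤ W₁ ⊔ W₂) q := by
      rw [ht₂, res_res]
    rw [map_sub, ← sec_res, ← sec_res, e₁, e₂, sub_self])
  -- lift `c` through the previous sequence and extend it to `W₂`
  have he : qtIter (n + 1) F = qt (qtIter n F) := qtIter_succ' n F
  have hext : ∀ c : (qt (qtIter n F)).obj.obj (op (W₁ ⊓ W₂)),
      ∃ b : (qt (qtIter n F)).obj.obj (op W₂),
        res (qt (qtIter n F)).obj inf_le_right b = c := by
    intro c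
    obtain ⟨g, hg⟩ := h₁₂ F hF c
    let g' : S'.X₂.obj.obj (op W₂) := fun (p : W₂) ↦
      haveI := Classical.propDecidable (p.1 ∈ W₁)
      if hp : p.1 ∈ W₁ then g ⟨p.1, hp, p.2⟩ else 0
    refine ⟨sec S'.g W₂ g', ?_⟩
    rw [← hg]
    refine (sec_res S'.g _ g').trans (congrArg (sec S'.g (W₁ ⊓ W₂)) ?_)
    funext (p : (W₁ ⊓ W₂ : Opens X))
    exact dif_pos p.2.1
  obtain ⟨b, hb⟩ : ∃ b : S.X₁.obj.obj (op W₂), res S.X₁.obj inf_le_right b = c := by
    have key : ∀ (G : AbSh X), G = qt (qtIter n F) → ∀ c : G.obj.obj (op (W₁ ⊓ W₂)),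
        ∃ b : G.obj.obj (op W₂), res G.obj inf_le_right b = c := by
      rintro G rfl c
      exact hext c
    exact key S.X₁ he c
  -- glue
  let sf : ∀ i : ULift.{u} Bool, S.X₂.obj.obj (op (cond i.down W₁ W₂))
    | ⟨true⟩ => t₁
    | ⟨false⟩ => t₂ + sec S.f W₂ b
  have hov : res S.X₂.obj inf_le_left t₁ =
      res S.X₂.obj (inf_le_right : W₁ ⊓ W₂ ≤ W₂) (t₂ + sec S.f W₂ b) := by
    rw [map_add, sec_res, hb, hc]
    exact (add_sub_cancel _ _).symm
  have hcompat : TopCat.Presheaf.IsCompatible S.X₂.obj (fun i : ULift.{u} Bool ↦ cond i.down W₁ W₂) sf := by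
    rintro ⟨_ | _⟩ ⟨_ | _⟩
    · rfl
    · have := congrArg (res S.X₂.obj (inf_comm W₂ W₁).le) hov
      rw [res_res, res_res] at this
      exact this.symm
    · exact hov
    · rfl
  have hle : ∀ i : ULift.{u} Bool, cond i.down W₁ W₂ ≤ W₁ ⊔ W₂ := by
    rintro ⟨_ | _⟩
    · exact le_sup_right
    · exact le_sup_left
  have hcov : W₁ ⊔ W₂ ≤ ⨆ i : ULift.{u} Bool, cond i.down W₁ W₂ :=
    sup_le (le_iSup (fun i : ULift.{u} Bool ↦ cond i.down W₁ W₂) ⟨true⟩)
      (le_iSup (fun i : ULift.{u} Bool ↦ cond i.down W₁ W₂) ⟨false⟩)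
  obtain ⟨t, ht, -⟩ := TopCat.Sheaf.existsUnique_gluing' S.X₂ _ _ (fun i ↦ homOfLE (hle i)) hcov sf hcompat
  refine ⟨t, TopCat.Sheaf.eq_of_locally_eq' S.X₃ _ _ (fun i ↦ homOfLE (hle i)) hcov _ _ fun i ↦ ?_⟩
  change res S.X₃.obj (hle i) (sec S.g _ t) = res S.X₃.obj (hle i) q
  rw [sec_res]
  refine (congrArg (sec S.g _) (ht i)).trans ?_
  obtain ⟨_ | _⟩ := i
  · exact (map_add (sec S.g W₂) t₂ (sec S.f W₂ b)).trans
      ((congrArg _ (sec_g_f W₂ b)).trans ((add_zero _).trans ht₂))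
  · exact ht₁

end Space

variable {X : Scheme.{u}}

/-- a union of `k` affine opens with affine intersections -/
lemma vanishOn_iSup (hd : ∀ V W : X.Opens, IsAffineOpen V → IsAffineOpen W → IsAffineOpen (V ⊓ W)) :
    ∀ (k : ℕ) (U : Fin k → X.Opens), (∀ i, IsAffineOpen (U i)) → ∀ n, k ≤ n + 1 →
      VanishOn (affCov X) (⨆ i, U i) n := by
  intro k
  induction k with
  | zero =>
    intro U _ n _
    have : (⨆ i, U i) = (⊥ : X.Opens) := iSup_of_empty _
    rw [this]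
    exact vanishOn_bot n
  | succ k ih =>
    intro U hU n hn
    have e : (⨆ i, U i) = (⨆ i : Fin k, U i.castSucc) ⊔ U (Fin.last k) := by
      refine le_antisymm (iSup_le fun i ↦ ?_)
        (sup_le (iSup_le fun i ↦ le_iSup U _) (le_iSup U _))
      rcases Fin.eq_castSucc_or_eq_last i with ⟨j, rfl⟩ | rfl
      · exact le_sup_of_le_left (le_iSup (fun j : Fin k ↦ U j.castSucc) j)
      · exact le_sup_right
    rw [e]
    obtain rfl | ⟨m, rfl⟩ : n = 0 ∨ ∃ m, n = m + 1 := by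
      rcases n with _ | m
      · exact Or.inl rfl
      · exact Or.inr ⟨m, rfl⟩
    · have hk : k = 0 := by omega
      subst hk
      rw [iSup_of_empty, bot_sup_eq]
      exact vanishOn_of_mem (C := affCov X) (hU _) 0
    · refine (ih _ (fun i ↦ hU _) _ (by omega)).sup (vanishOn_of_mem (C := affCov X) (hU _) _) ?_
      rw [iSup_inf_eq]
      exact ih _ (fun i ↦ hd _ _ (hU _) (hU _)) m (by omega)

end Groth.Agent.CohAff
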