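import Groth.Agent.CohTop.Flasque

/-!
# Classes of cocycles of a flasque resolution of an abelian sheaf

A resolution cut into short exact sequences `0 ⟶ Z n ⟶ J n ⟶ Z (n+1) ⟶ 0` with flasque middle terms
gives `cls R n U : Z n (U) → H^n(U, Z 0)`, surjective, with kernel the image of `J (n-1) (U)`.
-/

universe u

open CategoryTheory Limits Opposite TopologicalSpace

namespace Groth.Agent.CohAff

open Groth.Agent.CohTop.Basic

variable {X : TopCat.{u}}

/-- a flasque resolution cut into short exact sequences -/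
structure AbRes (X : TopCat.{u}) : Type (u + 1) where
  /-- cocycles -/
  Z : ℕ → _root_.CohTop.Ab X
  /-- terms -/
  J : ℕ → _root_.CohTop.Ab X
  /-- inclusion -/
  ι : ∀ n, Z n ⟶ J n
  /-- differential -/
  p : ∀ n, J n ⟶ Z (n + 1)
  w : ∀ n, ι n ≫ p n = 0
  exact : ∀ n, (ShortComplex.mk (ι n) (p n) (w n)).ShortExact
  flasque : ∀ n, TopCat.Sheaf.IsFlasque (X := X) (J n)

namespace AbRes

/-- the resolution of the first cocycles -/
noncomputable def tail (R : AbRes X) : AbRes X where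
  Z n := R.Z (n + 1)
  J n := R.J (n + 1)
  ι n := R.ι (n + 1)
  p n := R.p (n + 1)
  w n := R.w (n + 1)
  exact n := R.exact (n + 1)
  flasque n := R.flasque (n + 1)

/-- the first connecting map -/
noncomputable def dl (R : AbRes X) (m : ℕ) (U : Opens X) :
    _root_.CohTop.HU (R.Z 1) m U →+ _root_.CohTop.HU (R.Z 0) (m + 1) U :=
  δ (R.exact 0) U m (m + 1) rfl

lemma dl_surjective (R : AbRes X) (m : ℕ) (U : Opens X) : Function.Surjective (R.dl m U) := fun x ↦
  have := @CohTop.Flasque.HU_subsingleton X _ (R.flasque 0) m U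
  HU_exact₁ (R.exact 0) U rfl x (Subsingleton.elim _ _)

lemma dl_injective (R : AbRes X) (m : ℕ) (U : Opens X) : Function.Injective (R.dl (m + 1) U) := by
  refine (injective_iff_map_eq_zero _).2 fun x hx ↦ ?_
  obtain ⟨y, hy⟩ := HU_exact₃ (R.exact 0) U rfl x hx
  have := @CohTop.Flasque.HU_subsingleton X _ (R.flasque 0) m U
  obtain rfl : y = 0 := Subsingleton.elim _ _
  exact hy.symm.trans (map_zero _)

lemma dl_eq_zero_iff (R : AbRes X) (U : Opens X) (z : (R.Z 1).obj.obj (op U)) :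
    R.dl 0 U ((HU0Equiv (R.Z 1) U).symm z) = 0 ↔
      ∃ a : (R.J 0).obj.obj (op U), (R.p 0).hom.app (op U) a = z := by
  constructor
  · intro h
    obtain ⟨y, hy⟩ := HU_exact₃ (R.exact 0) U rfl _ h
    exact ⟨HU0Equiv (R.J 0) U y, ((HU0Equiv_map (R.p 0) U y).symm.trans
      (congrArg (HU0Equiv (R.Z 1) U) hy)).trans ((HU0Equiv (R.Z 1) U).apply_symm_apply z)⟩
  · rintro ⟨a, rfl⟩
    have : (HU0Equiv (R.Z 1) U).symm ((R.p 0).hom.app (op U) a) =
        _root_.CohTop.HUmap (R.p 0) 0 U ((HU0Equiv (R.J 0) U).symm a) := by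
      apply (HU0Equiv (R.Z 1) U).injective
      rw [AddEquiv.apply_symm_apply, HU0Equiv_map, AddEquiv.apply_symm_apply]
    rw [this]
    exact δ_g (R.exact 0) U rfl _

/-- the class of a cocycle -/
noncomputable def cls : ∀ (n : ℕ) (R : AbRes X) (U : Opens X),
    (R.Z n).obj.obj (op U) →+ _root_.CohTop.HU (R.Z 0) n U
  | 0, R, U => (HU0Equiv (R.Z 0) U).symm.toAddMonoidHom
  | n + 1, R, U => (R.dl n U).comp (cls n R.tail U)

lemma cls_zero (R : AbRes X) (U : Opens X) (z : (R.Z 0).obj.obj (op U)) :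
    cls 0 R U z = (HU0Equiv (R.Z 0) U).symm z := rfl

lemma cls_succ (n : ℕ) (R : AbRes X) (U : Opens X) (z : (R.Z (n + 1)).obj.obj (op U)) :
    cls (n + 1) R U z = R.dl n U (cls n R.tail U z) := rfl

lemma cls_surjective : ∀ (n : ℕ) (R : AbRes X) (U : Opens X), Function.Surjective (cls n R U)
  | 0, R, U => fun x ↦ ⟨HU0Equiv (R.Z 0) U x, (HU0Equiv (R.Z 0) U).symm_apply_apply x⟩
  | n + 1, R, U => fun x ↦ by
    obtain ⟨y, hy⟩ := R.dl_surjective n U x
    obtain ⟨z, hz⟩ := cls_surjective n R.tail U y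
    exact ⟨z, (cls_succ n R U z).trans ((congrArg (R.dl n U) hz).trans hy)⟩

lemma cls_zero_eq_zero_iff (R : AbRes X) (U : Opens X) (z : (R.Z 0).obj.obj (op U)) :
    cls 0 R U z = 0 ↔ z = 0 :=
  (HU0Equiv (R.Z 0) U).symm.map_eq_zero_iff

lemma cls_succ_eq_zero_iff : ∀ (n : ℕ) (R : AbRes X) (U : Opens X)
    (z : (R.Z (n + 1)).obj.obj (op U)),
    cls (n + 1) R U z = 0 ↔ ∃ a : (R.J n).obj.obj (op U), (R.p n).hom.app (op U) a = z
  | 0, R, U, z => R.dl_eq_zero_iff U z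
  | n + 1, R, U, z => by
    rw [cls_succ]
    exact (map_eq_zero_iff _ (R.dl_injective n U)).trans (cls_succ_eq_zero_iff n R.tail U z)

/-! ### restriction -/

lemma cls_res : ∀ (n : ℕ) (R : AbRes X) {U V : Opens X} (h : V ≤ U) (z : (R.Z n).obj.obj (op U)),
    cls n R V ((R.Z n).obj.map (homOfLE h).op z) = _root_.CohTop.res _ n h (cls n R U z)
  | 0, R, U, V, h, z => by
    rw [cls_zero, cls_zero]
    apply (HU0Equiv (R.Z 0) V).injective
    rw [HU0Equiv_res, AddEquiv.apply_symm_apply, AddEquiv.apply_symm_apply]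
  | n + 1, R, U, V, h, z => by
    rw [cls_succ, cls_succ]
    exact (congrArg (R.dl n V) (cls_res n R.tail h z)).trans (δ_res (R.exact 0) h rfl _).symm

/-! ### naturality -/

/-- morphisms of resolutions -/
structure Hom (R R' : AbRes X) where
  /-- on cocycles -/
  φ : ∀ n, R.Z n ⟶ R'.Z n
  /-- on terms -/
  ψ : ∀ n, R.J n ⟶ R'.J n
  ι_comm : ∀ n, φ n ≫ R'.ι n = R.ι n ≫ ψ n
  p_comm : ∀ n, ψ n ≫ R'.p n = R.p n ≫ φ (n + 1)

/-- shifted morphism -/
noncomputable def Hom.tail {R R' : AbRes X} (α : Hom R R') : Hom R.tail R'.tail where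
  φ n := α.φ (n + 1)
  ψ n := α.ψ (n + 1)
  ι_comm n := α.ι_comm (n + 1)
  p_comm n := α.p_comm (n + 1)

lemma δ_natural {T T' : ShortComplex (_root_.CohTop.Ab X)} (hT : T.ShortExact)
    (hT' : T'.ShortExact) (α : T ⟶ T') (U : Opens X) (m : ℕ)
    (x : _root_.CohTop.HU T.X₃ m U) :
    δ hT' U m (m + 1) rfl (_root_.CohTop.HUmap α.τ₃ m U x) =
      _root_.CohTop.HUmap α.τ₁ (m + 1) U (δ hT U m (m + 1) rfl x) := by
  let x' : Abelian.Ext (CohCx.freeSheaf (Opens.grothendieckTopology X) U) T.X₃ m := x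
  change (x'.comp (Abelian.Ext.mk₀ α.τ₃) (add_zero m)).comp hT'.extClass rfl =
    (x'.comp hT.extClass rfl).comp (Abelian.Ext.mk₀ α.τ₁) (add_zero (m + 1))
  rw [Abelian.Ext.comp_assoc_of_third_deg_zero, ShortComplex.ShortExact.extClass_naturality hT hT' α,
    Abelian.Ext.comp_assoc_of_second_deg_zero]

lemma dl_natural {R R' : AbRes X} (α : Hom R R') (m : ℕ) (U : Opens X)
    (x : _root_.CohTop.HU (R.Z 1) m U) :
    R'.dl m U (_root_.CohTop.HUmap (α.φ 1) m U x) =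
      _root_.CohTop.HUmap (α.φ 0) (m + 1) U (R.dl m U x) :=
  δ_natural (R.exact 0) (R'.exact 0)
    (ShortComplex.homMk (S₁ := ShortComplex.mk (R.ι 0) (R.p 0) (R.w 0))
      (S₂ := ShortComplex.mk (R'.ι 0) (R'.p 0) (R'.w 0)) (α.φ 0) (α.ψ 0) (α.φ 1)
      (α.ι_comm 0) (α.p_comm 0)) U m x

lemma Hom.cls_naturality : ∀ (n : ℕ) {R R' : AbRes X} (α : Hom R R') (U : Opens X)
    (z : (R.Z n).obj.obj (op U)),
    cls n R' U ((α.φ n).hom.app (op U) z) = _root_.CohTop.HUmap (α.φ 0) n U (cls n R U z)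
  | 0, R, R', α, U, z => by
    rw [cls_zero, cls_zero]
    apply (HU0Equiv (R'.Z 0) U).injective
    rw [HU0Equiv_map, AddEquiv.apply_symm_apply, AddEquiv.apply_symm_apply]
  | n + 1, R, R', α, U, z => by
    rw [cls_succ, cls_succ]
    exact (congrArg (R'.dl n U) (Hom.cls_naturality n α.tail U z)).trans (dl_natural α n U _)

/-- the class of a global cocycle -/
noncomputable def clsTop (R : AbRes X) (n : ℕ) :
    (R.Z n).obj.obj (op ⊤) →+ _root_.CohTop.H (R.Z 0) n :=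
  (HEquivHUTop (R.Z 0) n).symm.toAddMonoidHom.comp (cls n R ⊤)

lemma clsTop_apply (R : AbRes X) (n : ℕ) (z : (R.Z n).obj.obj (op ⊤)) :
    HEquivHUTop (R.Z 0) n (R.clsTop n z) = cls n R ⊤ z :=
  (HEquivHUTop (R.Z 0) n).apply_symm_apply _

lemma clsTop_surjective (R : AbRes X) (n : ℕ) : Function.Surjective (R.clsTop n) := fun x ↦
  have ⟨z, hz⟩ := cls_surjective n R ⊤ (HEquivHUTop (R.Z 0) n x)
  ⟨z, (HEquivHUTop (R.Z 0) n).injective ((R.clsTop_apply n z).trans hz)⟩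

lemma clsTop_eq_zero_iff (R : AbRes X) (n : ℕ) (z : (R.Z n).obj.obj (op ⊤)) :
    R.clsTop n z = 0 ↔ cls n R ⊤ z = 0 := by
  rw [← R.clsTop_apply n z, AddEquiv.map_eq_zero_iff]

lemma Hom.clsTop {R R' : AbRes X} (α : Hom R R') (n : ℕ) (z : (R.Z n).obj.obj (op ⊤)) :
    R'.clsTop n ((α.φ n).hom.app (op ⊤) z) = Sheaf.H.map (α.φ 0) n (R.clsTop n z) := by
  apply (HEquivHUTop (R'.Z 0) n).injective
  rw [HEquivHUTop_map, clsTop_apply, clsTop_apply, Hom.cls_naturality]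

end AbRes

end Groth.Agent.CohAff
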