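import Groth.Agent.CohAff.PushCoh
import Groth.Agent.CohAff.AbRes

/-!
# Cohomology classes of cocycles of a resolution of modules

For a flasque resolution `R : FRes X`, `R.cls n U : Γ(R.Z n, U) → H^n(U, R.Z 0)` is surjective with
kernel `R.Ex n U`, and `R.clsTop n : Γ(R.Z n, ⊤) → H^n(X, R.Z 0)` is moreover linear over global
functions.
-/

universe u

open CategoryTheory Limits Opposite TopologicalSpace AlgebraicGeometry

namespace Groth.Agent.CohAff

local notation "rs" => Groth.Agent.QCoh.res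
local notation "rr" => Groth.Agent.QCoh.rres

variable {X : Scheme.{u}}

namespace FRes

variable (R : FRes X)

/-- the underlying resolution of abelian sheaves -/
noncomputable def toAbRes : AbRes X.toTopCat where
  Z n := Coh.toAb (R.Z n)
  J n := Coh.toAb (R.J n)
  ι n := (ModShf.toAbFunctor X).map (R.ι n)
  p n := (ModShf.toAbFunctor X).map (R.p n)
  w n := (R.abSeq n).zero
  exact := R.abSeq_shortExact
  flasque := R.flasque

/-- the class of a cocycle -/
noncomputable def cls (n : ℕ) (U : X.Opens) :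
    Γ(R.Z n, U) →+ _root_.CohTop.HU (X := X.toTopCat) (Coh.toAb (R.Z 0)) n U :=
  AbRes.cls n R.toAbRes U

lemma cls_surjective (n : ℕ) (U : X.Opens) : Function.Surjective (R.cls n U) :=
  AbRes.cls_surjective n R.toAbRes U

lemma cls_eq_zero_iff : ∀ (n : ℕ) (U : X.Opens) (z : Γ(R.Z n, U)),
    R.cls n U z = 0 ↔ R.Ex n U z
  | 0, U, z => AbRes.cls_zero_eq_zero_iff R.toAbRes U z
  | n + 1, U, z => AbRes.cls_succ_eq_zero_iff n R.toAbRes U z

lemma cls_res (n : ℕ) {U V : X.Opens} (h : V ≤ U) (z : Γ(R.Z n, U)) :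
    R.cls n V (rs (R.Z n) h z) =
      _root_.CohTop.res (X := X.toTopCat) (Coh.toAb (R.Z 0)) n h (R.cls n U z) :=
  AbRes.cls_res n R.toAbRes h z

/-- the class of a global cocycle -/
noncomputable def clsTop (n : ℕ) : Γ(R.Z n, ⊤) →+ Coh.HH X (R.Z 0) n :=
  R.toAbRes.clsTop n

lemma clsTop_surjective (n : ℕ) : Function.Surjective (R.clsTop n) :=
  R.toAbRes.clsTop_surjective n

lemma clsTop_eq_zero_iff (n : ℕ) (z : Γ(R.Z n, ⊤)) : R.clsTop n z = 0 ↔ R.Ex n ⊤ z :=
  (R.toAbRes.clsTop_eq_zero_iff n z).trans (R.cls_eq_zero_iff n ⊤ z)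

lemma smulAb_comm {M M' : X.Modules} (f : M ⟶ M') (r : Coh.Γtop X) :
    Coh.smulAb M r ≫ (ModShf.toAbFunctor X).map f =
      (ModShf.toAbFunctor X).map f ≫ Coh.smulAb M' r := by
  ext V m
  exact (f.val.app V).hom.map_smul _ m

/-- multiplication by a global function -/
noncomputable def smulHom (r : Coh.Γtop X) : AbRes.Hom R.toAbRes R.toAbRes where
  φ n := Coh.smulAb (R.Z n) r
  ψ n := Coh.smulAb (R.J n) r
  ι_comm n := smulAb_comm (R.ι n) r
  p_comm n := smulAb_comm (R.p n) r

lemma clsTop_smul (n : ℕ) (r : Coh.Γtop X) (z : Γ(R.Z n, ⊤)) :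
    R.clsTop n ((show Γ(X, ⊤) from r) • z) = r • R.clsTop n z := by
  refine Eq.trans (congrArg (R.clsTop n) ?_) ((R.smulHom r).clsTop n z)
  exact congrArg (· • z) (QCoh.rres_self (le_refl (⊤ : X.Opens)) (show Γ(X, ⊤) from r)).symm

end FRes

/-- two surjective maps with the same kernel give isomorphic targets -/
noncomputable def addEquivOfKer {A B C : Type*} [AddCommGroup A] [AddCommGroup B] [AddCommGroup C]
    (f : A →+ B) (g : A →+ C) (hf : Function.Surjective f) (hg : Function.Surjective g)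
    (h : ∀ a, f a = 0 ↔ g a = 0) : B ≃+ C :=
  (QuotientAddGroup.quotientKerEquivOfSurjective f hf).symm.trans
    ((QuotientAddGroup.quotientAddEquivOfEq (AddSubgroup.ext h)).trans
      (QuotientAddGroup.quotientKerEquivOfSurjective g hg))

section OfMod

variable (M : X.Modules)

/-- cocycles of a resolution starting at `M` -/
noncomputable def zMod : ℕ → X.Modules
  | 0 => M
  | n + 1 => (fresOf (injectiveResolution M)).Z (n + 1)

/-- comparison with the cycles -/
noncomputable def zModIso : ∀ n, zMod M n ≅ (fresOf (injectiveResolution M)).Z n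
  | 0 => (fresOfZ0Iso _).symm
  | _ + 1 => Iso.refl _

/-- a flasque resolution of `M` -/
noncomputable def FRes.ofMod : FRes X :=
  let R := fresOf (injectiveResolution M)
  { Z := zMod M
    J := R.J
    ι := fun n ↦ (zModIso M n).hom ≫ R.ι n
    p := fun n ↦ R.p n ≫ (zModIso M (n + 1)).inv
    w := fun n ↦ by simp [reassoc_of% (R.w n)]
    exact := fun n ↦ ShortComplex.shortExact_of_iso
      (ShortComplex.isoMk (S₁ := ShortComplex.mk (R.ι n) (R.p n) (R.w n)) (zModIso M n).symm
        (Iso.refl _) (zModIso M (n + 1)).symm (by simp [R]) (by simp [R])) (R.exact n)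
    flasque := R.flasque }

instance isQuasicoherent_ofMod [hM : M.IsQuasicoherent] :
    ((FRes.ofMod M).Z 0).IsQuasicoherent := hM

end OfMod

end Groth.Agent.CohAff
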