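import Groth.Agent.CohAff.PushCoh

/-!
# Direct image and restriction of resolutions

`FRes.restrict` restricts a resolution to an open subscheme; `FRes.pushAff` pushes a resolution with
quasi-coherent `Z 0` along an affine morphism.
-/

universe u

open CategoryTheory Limits Opposite TopologicalSpace AlgebraicGeometry

namespace Groth.Agent.CohAff

local notation "rs" => Groth.Agent.QCoh.res
local notation "rr" => Groth.Agent.QCoh.rres

variable {X Y : Scheme.{u}}

/-- a morphism injective on all sections is mono -/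
lemma mono_of_app_injective {M N : X.Modules} (φ : M ⟶ N)
    (h : ∀ U, Function.Injective (φ.app U)) : Mono φ :=
  Preadditive.mono_of_cancel_zero _ fun g hg ↦ Scheme.Modules.hom_ext _ _ fun U ↦ by
    ext x
    apply h U
    refine Eq.trans ?_ (map_zero _).symm
    have := congr($(congrArg (fun a ↦ Scheme.Modules.Hom.app a U) hg) x)
    exact this

/-- the affine opens inside an open cover it -/
lemma le_iSup_affine_le (V : Y.Opens) :
    V ≤ ⨆ W : {W : Y.affineOpens // W.1 ≤ V}, W.1.1 := by
  intro y hy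
  obtain ⟨_, ⟨W, hW, rfl⟩, hyW, hWV⟩ := Y.isBasis_affineOpens.exists_subset_of_mem_open hy V.2
  exact Opens.mem_iSup.2 ⟨⟨⟨W, hW⟩, hWV⟩, hyW⟩

/-- a morphism surjective on affine sections is epi -/
lemma epi_of_affine_surjective {M N : Y.Modules} (φ : M ⟶ N)
    (h : ∀ V : Y.Opens, IsAffineOpen V → Function.Surjective (φ.app V)) : Epi φ :=
  Preadditive.epi_of_cancel_zero _ fun g hg ↦ Scheme.Modules.hom_ext _ _ fun V ↦ by
    ext x
    refine QCoh.eq_zero_of_locally_eq_zero _ (fun W ↦ W.2) (le_iSup_affine_le V) _ fun W ↦ ?_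
    rw [← QCoh.app_res]
    obtain ⟨a, ha⟩ := h W.1.1 W.1.2 (rs N W.2 x)
    rw [← ha]
    exact congr($(congrArg (fun b ↦ Scheme.Modules.Hom.app b W.1.1) hg) a)

/-- a morphism bijective on affine sections is an isomorphism -/
lemma isIso_of_affine_bijective {M N : Y.Modules} (φ : M ⟶ N)
    (h : ∀ V : Y.Opens, IsAffineOpen V → Function.Bijective (φ.app V)) : IsIso φ := by
  rw [Scheme.Modules.Hom.isIso_iff_isIso_app]
  intro V
  refine (ConcreteCategory.isIso_iff_bijective _).2 ⟨?_, ?_⟩
  · refine (injective_iff_map_eq_zero _).2 fun x hx ↦ ?_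
    refine QCoh.eq_zero_of_locally_eq_zero _ (fun W ↦ W.2) (le_iSup_affine_le V) _ fun W ↦ ?_
    apply (h W.1.1 W.1.2).1
    rw [QCoh.app_res, hx, map_zero, map_zero]
  · intro x
    choose a ha using fun W : {W : Y.affineOpens // W.1 ≤ V} ↦
      (h W.1.1 W.1.2).2 (rs N W.2 x)
    have hloc : ∀ W W', rs M (inf_le_left : W.1.1 ⊓ W'.1.1 ≤ W.1.1) (a W) =
        rs M (inf_le_right : W.1.1 ⊓ W'.1.1 ≤ W'.1.1) (a W') := by
      intro W W'
      refine QCoh.eq_of_locally_eq M (fun A ↦ A.2) (le_iSup_affine_le _) _ _ fun A ↦ ?_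
      apply (h A.1.1 A.1.2).1
      rw [QCoh.res_res, QCoh.res_res, QCoh.app_res, QCoh.app_res, ha, ha, QCoh.res_res,
        QCoh.res_res]
    obtain ⟨y, hy⟩ := QCoh.exists_glue M (fun W : {W : Y.affineOpens // W.1 ≤ V} ↦ W.2)
      (le_iSup_affine_le V) a hloc
    refine ⟨y, QCoh.eq_of_locally_eq N (fun W : {W : Y.affineOpens // W.1 ≤ V} ↦ W.2)
      (le_iSup_affine_le V) _ _ fun W ↦ ?_⟩
    rw [← QCoh.app_res, hy, ha]

/-! ### restriction -/

section Restrict

variable (j : Y ⟶ X) [IsOpenImmersion j]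

instance restrictFunctor_additive : (Scheme.Modules.restrictFunctor j).Additive :=
  (Scheme.Modules.restrictAdjunction j).left_adjoint_additive

lemma restrict_shortExact {S : ShortComplex X.Modules} (hS : S.ShortExact) :
    (S.map (Scheme.Modules.restrictFunctor j)).ShortExact := by
  have := hS.epi_g
  have := hS.mono_f
  refine ShortComplex.ShortExact.mk' (hS.exact.map_of_epi_of_preservesCokernel _ ‹_› inferInstance)
    ?_ (inferInstanceAs (Epi ((Scheme.Modules.restrictFunctor j).map S.g)))
  exact mono_of_app_injective _ fun U ↦ QCoh.app_injective_of_mono S.f (j ''ᵁ U)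

lemma isFlasque_restrict {M : X.Modules}
    (hM : TopCat.Sheaf.IsFlasque (X := X.toTopCat) (Coh.toAb M)) :
    TopCat.Sheaf.IsFlasque (X := Y.toTopCat) (Coh.toAb (M.restrict j)) :=
  ModShf.isFlasque_of_surjective (X := Y.toTopCat) (Coh.toAb (M.restrict j)) fun {V U} g ↦
    (AddCommGrpCat.epi_iff_surjective _).1
      (hM.epi (homOfLE (j.image_mono (leOfHom g))).op)

/-- restriction of a resolution to an open subscheme -/
noncomputable def FRes.restrict (R : FRes X) : FRes Y where
  Z n := (R.Z n).restrict j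
  J n := (R.J n).restrict j
  ι n := (Scheme.Modules.restrictFunctor j).map (R.ι n)
  p n := (Scheme.Modules.restrictFunctor j).map (R.p n)
  w n := by rw [← Functor.map_comp, R.w, Functor.map_zero]
  exact n := restrict_shortExact j (R.exact n)
  flasque n := isFlasque_restrict j (R.flasque n)

instance (R : FRes X) [(R.Z 0).IsQuasicoherent] : ((R.restrict j).Z 0).IsQuasicoherent :=
  inferInstanceAs (((R.Z 0).restrict j).IsQuasicoherent)

end Restrict

/-! ### direct image along an affine morphism -/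

section Push

variable (f : X ⟶ Y) [IsAffineHom f]

lemma isFlasque_push {M : X.Modules}
    (hM : TopCat.Sheaf.IsFlasque (X := X.toTopCat) (Coh.toAb M)) :
    TopCat.Sheaf.IsFlasque (X := Y.toTopCat)
      (Coh.toAb ((Scheme.Modules.pushforward f).obj M)) :=
  ModShf.isFlasque_of_surjective (X := Y.toTopCat) _ fun {V U} g ↦
    (AddCommGrpCat.epi_iff_surjective _).1 (hM.epi ((Opens.map f.base).map g).op)

lemma push_shortExact (R : FRes X) [(R.Z 0).IsQuasicoherent] (n : ℕ) :
    ((ShortComplex.mk (R.ι n) (R.p n) (R.w n)).map (Scheme.Modules.pushforward f)).ShortExact := by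
  have := (R.exact n).mono_f
  refine ShortComplex.ShortExact.mk'
    ((R.exact n).exact.map_of_mono_of_preservesKernel _ ‹_› inferInstance)
    (inferInstanceAs (Mono ((Scheme.Modules.pushforward f).map (R.ι n))))
    (epi_of_affine_surjective _ fun V hV ↦ ?_)
  exact fun z ↦ FRes.van_succ_of_isAffineOpen (R := R) (hV.preimage f) n z

/-- direct image of a resolution along an affine morphism -/
noncomputable def FRes.pushAff (R : FRes X) [(R.Z 0).IsQuasicoherent] : FRes Y where
  Z n := (Scheme.Modules.pushforward f).obj (R.Z n)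
  J n := (Scheme.Modules.pushforward f).obj (R.J n)
  ι n := (Scheme.Modules.pushforward f).map (R.ι n)
  p n := (Scheme.Modules.pushforward f).map (R.p n)
  w n := by rw [← Functor.map_comp, R.w, Functor.map_zero]
  exact n := push_shortExact f R n
  flasque n := isFlasque_push f (R.flasque n)

instance (R : FRes X) [(R.Z 0).IsQuasicoherent] :
    ((R.pushAff f).Z 0).IsQuasicoherent :=
  QCoh.isQuasicoherent_pushforward f (R.Z 0)

lemma FRes.ex_pushAff_iff (R : FRes X) [(R.Z 0).IsQuasicoherent] : ∀ (n : ℕ) (V : Y.Opens)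
    (z : Γ((R.pushAff f).Z n, V)), (R.pushAff f).Ex n V z ↔ R.Ex n (f ⁻¹ᵁ V) z
  | 0, _, _ => Iff.rfl
  | _ + 1, _, _ => Iff.rfl

lemma FRes.van_pushAff_iff (R : FRes X) [(R.Z 0).IsQuasicoherent] (n : ℕ) (V : Y.Opens) :
    (R.pushAff f).Van n V ↔ R.Van n (f ⁻¹ᵁ V) :=
  forall_congr' fun z ↦ R.ex_pushAff_iff f n V z

end Push

/-- a finite biproduct of quasi-coherent modules is quasi-coherent -/
lemma isQuasicoherent_biproduct [HasFiniteBiproducts X.Modules] {m : ℕ} (P : Fin m → X.Modules)
    [∀ i, (P i).IsQuasicoherent] : (biproduct P).IsQuasicoherent :=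
  have : ∀ i : ULift.{u} (Fin m), (P i.down).IsQuasicoherent := fun i ↦ inferInstance
  QCoh.isQuasicoherent_of_iso
    ((biproduct.isoCoproduct (fun i : ULift.{u} (Fin m) ↦ P i.down)).symm ≪≫
      biproduct.whiskerEquiv Equiv.ulift fun i ↦ Iso.refl (P i.down))

end Groth.Agent.CohAff
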