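import Groth.Agent.CohAff.Godement
import Mathlib.CategoryTheory.Sites.SheafCohomology.Basic
import Mathlib.CategoryTheory.Abelian.GrothendieckCategory.HasExt
import Mathlib.CategoryTheory.Abelian.GrothendieckAxioms.Sheaf
import Mathlib.Algebra.Category.Grp.AB
import Mathlib.Algebra.Category.Grp.Ulift
import Mathlib.Algebra.Homology.DerivedCategory.Ext.ExactSequences

/-!
# Cartan's criterion: Čech vanishing on a system of coverings kills sheaf cohomology
-/

universe u

open CategoryTheory Limits Opposite TopologicalSpace Abelian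

namespace Groth.Agent.CohAff

variable {X : TopCat.{u}}

lemma cd_zero_apply (P : TopCat.Presheaf AddCommGrpCat.{u} X) {ι : Type u} (V : ι → Opens X)
    (s : Cochain P V 0) (x : Fin 2 → ι) :
    cd P V 0 s x = res P (inter_comp_le V x (0 : Fin 2).succAbove) (s (x ∘ (0 : Fin 2).succAbove)) -
      res P (inter_comp_le V x (1 : Fin 2).succAbove) (s (x ∘ (1 : Fin 2).succAbove)) := by
  refine (cd_apply P V 0 s x).trans ((Fin.sum_univ_two _).trans ?_)
  rw [sub_eq_add_neg]
  congr 1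
  · simp
  · simp

/-- A system of admissible coverings of a distinguished class of opens. -/
structure CovSys (X : TopCat.{u}) : Type (u + 1) where
  /-- the distinguished opens -/
  mem : Opens X → Prop
  /-- the admissible coverings -/
  cov : ∀ (_ : Opens X) {ι : Type u}, (ι → Opens X) → Prop
  inter_mem : ∀ {U : Opens X} {ι : Type u} {V : ι → Opens X}, cov U V →
    ∀ {n : ℕ} (x : Fin (n + 1) → ι), mem (inter V x)
  sup_eq : ∀ {U : Opens X} {ι : Type u} {V : ι → Opens X}, cov U V → ⨆ i, V i = U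
  refine' : ∀ {U : Opens X}, mem U → ∀ W : ∀ p ∈ U, Opens X, (∀ p hp, p ∈ W p hp) →
    ∃ (ι : Type u) (V : ι → Opens X), cov U V ∧ ∀ i, ∃ p hp, V i ≤ W p hp

/-- Čech acyclicity with respect to all admissible coverings -/
def CovSys.Good (C : CovSys X) (F : AbSh X) : Prop :=
  ∀ (U : Opens X) (ι : Type u) (V : ι → Opens X), C.cov U V → ∀ n, CechExact F.obj V n

/-- the system of all coverings -/
def allCov (X : TopCat.{u}) : CovSys X where
  mem _ := True
  cov U ι V := ⨆ i, V i = U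
  inter_mem := fun _ _ _ ↦ trivial
  sup_eq h := h
  refine' {U} _ W hW := ⟨U, fun p ↦ W p.1 p.2 ⊓ U,
    le_antisymm (iSup_le fun p ↦ inf_le_right)
      (fun p hp ↦ Opens.mem_iSup.2 ⟨⟨p, hp⟩, hW p hp, hp⟩),
    fun p ↦ ⟨p.1, p.2, inf_le_left⟩⟩

/-- Čech acyclicity for all families of opens -/
def UAcyclic (F : AbSh X) : Prop :=
  ∀ (ι : Type u) (V : ι → Opens X) (n : ℕ), CechExact F.obj V n

lemma UAcyclic.good {F : AbSh X} (h : UAcyclic F) (C : CovSys X) : C.Good F :=
  fun _ ι V _ n ↦ h ι V n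

lemma uAcyclic_gd (F : AbSh X) : UAcyclic (gd F) :=
  fun _ V n ↦ gdPre_cechExact F.obj V n

lemma uAcyclic_of_injective (I : AbSh X) [Injective I] : UAcyclic I := fun ι V n ↦ by
  refine CechExact.of_retract (η I).hom (Injective.factorThru (𝟙 I) (η I)).hom ?_ (uAcyclic_gd I ι V n)
  rw [← ObjectProperty.FullSubcategory.comp_hom, Injective.comp_factorThru]
  rfl

section Sequences

variable {S : ShortComplex (AbSh X)} {ι : Type u}

lemma cmap_f_injective (hS : S.ShortExact) (V : ι → Opens X) (n : ℕ) :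
    Function.Injective (cmap S.f.hom V n) := fun s t h ↦
  funext fun x ↦ sec_f_injective hS _ (congrFun h x)

lemma exists_cmap_f (hS : S.ShortExact) {V : ι → Opens X} {n : ℕ} {s : Cochain S.X₂.obj V n}
    (h : cmap S.g.hom V n s = 0) : ∃ t, cmap S.f.hom V n t = s := by
  choose t ht using fun x ↦ sec_exact hS (congrFun h x)
  exact ⟨t, funext ht⟩

lemma cmap_g_f (V : ι → Opens X) (n : ℕ) (s : Cochain S.X₁.obj V n) :
    cmap S.g.hom V n (cmap S.f.hom V n s) = 0 :=
  funext fun _ ↦ sec_g_f _ _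

lemma cd_lift_mem (hS : S.ShortExact) {V : ι → Opens X} {n : ℕ} {t : Cochain S.X₂.obj V n}
    (h : cd S.X₃.obj V n (cmap S.g.hom V n t) = 0) :
    ∃ c : Cochain S.X₁.obj V (n + 1), cd S.X₁.obj V (n + 1) c = 0 ∧
      cmap S.f.hom V (n + 1) c = cd S.X₂.obj V n t := by
  obtain ⟨c, hc⟩ := exists_cmap_f hS (show cmap S.g.hom V (n + 1) (cd S.X₂.obj V n t) = 0 by
    rw [← cd_cmap]; exact h)
  refine ⟨c, cmap_f_injective hS V (n + 2) ?_, hc⟩
  rw [← cd_cmap, hc, cd_cd, map_zero]

end Sequences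

variable (C : CovSys X) {S : ShortComplex (AbSh X)}

/-- sections are surjective on distinguished opens -/
lemma CovSys.Good.sec_surjective {C : CovSys X} (hS : S.ShortExact) (h₁ : C.Good S.X₁) {U : Opens X}
    (hU : C.mem U) : Function.Surjective (sec S.g U) := by
  intro q
  choose W hWU hpW t₀ ht₀ using fun p (hp : p ∈ U) ↦ sec_locally_surjective hS q hp
  obtain ⟨ι, V, hV, href⟩ := C.refine' hU W hpW
  choose p hp hle using href
  have hVU : ∀ i, V i ≤ U := fun i ↦ C.sup_eq hV ▸ le_iSup V i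
  let tt : Cochain S.X₂.obj V 0 := fun x ↦
    res S.X₂.obj ((inter_le V x 0).trans (hle (x 0))) (t₀ _ (hp (x 0)))
  have htt : cmap S.g.hom V 0 tt = fun x ↦ res S.X₃.obj ((inter_le V x 0).trans (hVU _)) q := by
    funext x
    rw [cmap_apply]
    change sec S.g _ (res _ _ _) = _
    rw [← sec_res, ht₀, res_res]
  obtain ⟨c, hc, hfc⟩ := cd_lift_mem hS (t := tt) (by
    rw [htt]
    funext x
    rw [cd_zero_apply, res_res, res_res]
    exact sub_self _)
  obtain ⟨b, hb⟩ := h₁ U ι V hV 0 c hc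
  let t' : Cochain S.X₂.obj V 0 := tt - cmap S.f.hom V 0 b
  have hdt' : cd S.X₂.obj V 0 t' = 0 := by
    rw [map_sub, cd_cmap, hb, hfc, sub_self]
  have hgt' : cmap S.g.hom V 0 t' = fun x ↦ res S.X₃.obj ((inter_le V x 0).trans (hVU _)) q := by
    rw [map_sub, cmap_g_f, sub_zero, htt]
  have h1 : ∀ i, V i ≤ inter V (fun _ : Fin 1 ↦ i) := fun i ↦ le_inter fun _ ↦ le_rfl
  let sf : ∀ i, S.X₂.obj.obj (op (V i)) := fun i ↦ res S.X₂.obj (h1 i) (t' fun _ ↦ i)
  have hcompat : TopCat.Presheaf.IsCompatible S.X₂.obj V sf := by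
    intro i j
    have h := congrFun hdt' ![i, j]
    rw [cd_zero_apply, Pi.zero_apply, sub_eq_zero] at h
    have hle2 : V i ⊓ V j ≤ inter V ![i, j] := le_inter fun a ↦ by
      fin_cases a
      · exact inf_le_left
      · exact inf_le_right
    have hcongr : ∀ (y : Fin 1 → ι) (l : ι) (_ : y = fun _ ↦ l) (hy : V i ⊓ V j ≤ inter V y)
        (hl : V i ⊓ V j ≤ V l),
        res S.X₂.obj hy (t' y) = res S.X₂.obj hl (res S.X₂.obj (h1 l) (t' fun _ ↦ l)) := by
      rintro y l rfl hy hl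
      rw [res_res]
    have h' := congrArg (res S.X₂.obj hle2) h
    rw [res_res, res_res,
      hcongr _ j (by funext a; fin_cases a; rfl) _ inf_le_right,
      hcongr _ i (by funext a; fin_cases a; rfl) _ inf_le_left] at h'
    exact h'.symm
  obtain ⟨g, hg, -⟩ := TopCat.Sheaf.existsUnique_gluing' S.X₂ V U (fun i ↦ homOfLE (hVU i))
    (C.sup_eq hV).ge sf hcompat
  refine ⟨g, TopCat.Sheaf.eq_of_locally_eq' S.X₃ V U (fun i ↦ homOfLE (hVU i))
    (C.sup_eq hV).ge _ _ fun i ↦ ?_⟩
  change res S.X₃.obj (hVU i) _ = res S.X₃.obj (hVU i) q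
  rw [sec_res]
  refine (congrArg (sec S.g (V i)) (hg i)).trans ?_
  rw [← sec_res]
  refine (congrArg (res S.X₃.obj (h1 i)) (congrFun hgt' fun _ ↦ i)).trans (res_res _ _ _ _)

/-- the quotient of Čech acyclic sheaves is Čech acyclic -/
lemma CovSys.Good.quot {C : CovSys X} (hS : S.ShortExact) (h₁ : C.Good S.X₁) (h₂ : C.Good S.X₂) :
    C.Good S.X₃ := by
  intro U ι V hV n s hs
  choose t ht using fun x ↦ h₁.sec_surjective hS (C.inter_mem hV x) (s x)
  have ht' : cmap S.g.hom V (n + 1) t = s := funext ht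
  obtain ⟨c, hc, hfc⟩ := cd_lift_mem hS (t := t) (by rw [ht', hs])
  obtain ⟨b, hb⟩ := h₁ U ι V hV (n + 1) c hc
  obtain ⟨a, ha⟩ := h₂ U ι V hV n (t - cmap S.f.hom V (n + 1) b)
    (by rw [map_sub, cd_cmap, hb, hfc, sub_self])
  exact ⟨cmap S.g.hom V n a, by rw [cd_cmap, ha, map_sub, cmap_g_f, sub_zero, ht']⟩

section Cohomology

/-- sheaves on a space form a Grothendieck abelian category -/
instance isGrothendieckAbelian_abSh :
    IsGrothendieckAbelian.{u} (Sheaf (Opens.grothendieckTopology X) AddCommGrpCat.{u}) :=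
  Sheaf.isGrothendieckAbelian_of_essentiallySmall _ _

lemma exists_injective_seq (F : AbSh X) :
    ∃ (S : ShortComplex (AbSh X)), S.ShortExact ∧ Injective S.X₂ ∧ S.X₁ = F := by
  refine ⟨ShortComplex.mk (Injective.ι F) (cokernel.π (Injective.ι F)) (cokernel.condition _),
    ⟨ShortComplex.exact_cokernel _⟩, inferInstance, rfl⟩

variable {S : ShortComplex (AbSh X)}

lemma subsingleton_H_one_of_surjective (hS : S.ShortExact) [Subsingleton (Sheaf.H S.X₂ 1)]
    (h : Function.Surjective (sec S.g ⊤)) : Subsingleton (Sheaf.H S.X₁ 1) := by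
  refine subsingleton_of_forall_eq 0 fun x ↦ ?_
  obtain ⟨y, hy⟩ := Ext.covariant_sequence_exact₁ _ hS x (Subsingleton.elim _ 0)
    (show 0 + 1 = 1 from rfl)
  obtain ⟨z, hz⟩ := h (Sheaf.H.equiv₀ S.X₃ isTerminalTop y)
  have : y = Sheaf.H.map S.g 0 ((Sheaf.H.equiv₀ S.X₂ isTerminalTop).symm z) := by
    rw [Sheaf.H.equiv₀_symm_naturality]
    exact ((AddEquiv.symm_apply_eq _).2 hz).symm
  rw [← hy, this, Sheaf.H.map_apply, Ext.comp_assoc_of_second_deg_zero, hS.comp_extClass,
    Ext.comp_zero]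

lemma subsingleton_H_succ_of_quot (hS : S.ShortExact) (n : ℕ)
    [Subsingleton (Sheaf.H S.X₂ (n + 1))] [Subsingleton (Sheaf.H S.X₃ n)] :
    Subsingleton (Sheaf.H S.X₁ (n + 1)) := by
  refine subsingleton_of_forall_eq 0 fun x ↦ ?_
  obtain ⟨y, hy⟩ := Ext.covariant_sequence_exact₁ _ hS x (Subsingleton.elim _ 0)
    (show n + 1 = n + 1 from rfl)
  rw [← hy, Subsingleton.elim y 0, Ext.zero_comp]

/-- Cartan's criterion -/
theorem CovSys.Good.subsingleton_H {C : CovSys X} (htop : C.mem ⊤) {F : AbSh X} (hF : C.Good F)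
    (n : ℕ) : Subsingleton (Sheaf.H F (n + 1)) := by
  induction n generalizing F with
  | zero =>
    obtain ⟨S, hS, hI, rfl⟩ := exists_injective_seq F
    exact subsingleton_H_one_of_surjective hS (hF.sec_surjective hS htop)
  | succ n ih =>
    obtain ⟨S, hS, hI, rfl⟩ := exists_injective_seq F
    have := ih (hF.quot hS ((uAcyclic_of_injective S.X₂).good C))
    exact subsingleton_H_succ_of_quot hS (n + 1)

lemma UAcyclic.subsingleton_H {F : AbSh X} (h : UAcyclic F) (n : ℕ) :
    Subsingleton (Sheaf.H F (n + 1)) :=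
  (h.good (allCov X)).subsingleton_H trivial n

end Cohomology

end Groth.Agent.CohAff
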