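import Groth.Agent.CohAff.Classes
import Groth.Agent.CohAff.ResOps

/-!
# Every flasque resolution computes the higher direct images

`rpushIsoRc`: `R^(n+1) f_* (R.Z 0) ≅ R.Rc f n` for an arbitrary flasque resolution `R` and an
arbitrary morphism `f`.
-/

universe u

open CategoryTheory Limits Opposite TopologicalSpace AlgebraicGeometry

namespace Groth.Agent.CohAff

local notation "rs" => Groth.Agent.QCoh.res

variable {X Y : Scheme.{u}}

namespace FRes

/-- morphisms of resolutions -/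
structure Hom (R R' : FRes X) where
  /-- on cocycles -/
  φ : ∀ n, R.Z n ⟶ R'.Z n
  /-- on terms -/
  ψ : ∀ n, R.J n ⟶ R'.J n
  ι_comm : ∀ n, φ n ≫ R'.ι n = R.ι n ≫ ψ n
  p_comm : ∀ n, ψ n ≫ R'.p n = R.p n ≫ φ (n + 1)

variable {R R' : FRes X}

/-- a lift of a map of cocycles one step further -/
noncomputable def liftTerm (hJ : ∀ n, Injective (R'.J n)) {n : ℕ} (φ : R.Z n ⟶ R'.Z n) :
    R.J n ⟶ R'.J n :=
  have := (R.exact n).mono_f
  have := hJ n
  Injective.factorThru (φ ≫ R'.ι n) (R.ι n)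

lemma ι_liftTerm (hJ : ∀ n, Injective (R'.J n)) {n : ℕ} (φ : R.Z n ⟶ R'.Z n) :
    R.ι n ≫ liftTerm hJ φ = φ ≫ R'.ι n :=
  have := (R.exact n).mono_f
  have := hJ n
  Injective.comp_factorThru _ _

/-- the lift of a map on cocycles -/
noncomputable def liftCyc (hJ : ∀ n, Injective (R'.J n)) (φ₀ : R.Z 0 ⟶ R'.Z 0) :
    ∀ n, R.Z n ⟶ R'.Z n
  | 0 => φ₀
  | n + 1 =>
    have := (R.exact n).epi_g
    (R.exact n).exact.desc (liftTerm hJ (liftCyc hJ φ₀ n) ≫ R'.p n)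
      ((Category.assoc _ _ _).symm.trans ((congrArg (· ≫ R'.p n) (ι_liftTerm hJ _)).trans
        ((Category.assoc _ _ _).trans ((congrArg (_ ≫ ·) (R'.w n)).trans comp_zero))))

/-- morphisms into resolutions with injective terms exist -/
noncomputable def Hom.lift (hJ : ∀ n, Injective (R'.J n)) (φ₀ : R.Z 0 ⟶ R'.Z 0) : Hom R R' where
  φ := liftCyc hJ φ₀
  ψ n := liftTerm hJ (liftCyc hJ φ₀ n)
  ι_comm n := (ι_liftTerm hJ _).symm
  p_comm n :=
    have := (R.exact n).epi_g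
    ((R.exact n).exact.g_desc _ _).symm

/-- the underlying morphism of abelian resolutions -/
noncomputable def Hom.toAb (α : Hom R R') : AbRes.Hom R.toAbRes R'.toAbRes where
  φ n := (ModShf.toAbFunctor X).map (α.φ n)
  ψ n := (ModShf.toAbFunctor X).map (α.ψ n)
  ι_comm n := by
    change _ ≫ (ModShf.toAbFunctor X).map (R'.ι n) = (ModShf.toAbFunctor X).map (R.ι n) ≫ _
    rw [← Functor.map_comp, α.ι_comm, Functor.map_comp]
  p_comm n := by
    change _ ≫ (ModShf.toAbFunctor X).map (R'.p n) = (ModShf.toAbFunctor X).map (R.p n) ≫ _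
    rw [← Functor.map_comp, α.p_comm, Functor.map_comp]

lemma Hom.cls (α : Hom R R') (n : ℕ) (U : X.Opens) (z : Γ(R.Z n, U)) :
    R'.cls n U ((α.φ n).app U z) = _root_.CohTop.HUmap (X := X.toTopCat)
      ((ModShf.toAbFunctor X).map (α.φ 0)) n U (R.cls n U z) :=
  AbRes.Hom.cls_naturality n α.toAb U z

lemma HUmap_bijective (α : Hom R R') [IsIso (α.φ 0)] (n : ℕ) (U : X.Opens) :
    Function.Bijective (_root_.CohTop.HUmap (X := X.toTopCat)
      ((ModShf.toAbFunctor X).map (α.φ 0)) n U) := by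
  have : IsIso ((((Sheaf.cohomologyPresheafFunctor (Opens.grothendieckTopology X.toTopCat) n).map
    ((ModShf.toAbFunctor X).map (α.φ 0)))).app (op U)) := inferInstance
  exact ConcreteCategory.bijective_of_isIso _

lemma Hom.ex_iff (α : Hom R R') [IsIso (α.φ 0)] (n : ℕ) (U : X.Opens) (z : Γ(R.Z n, U)) :
    R'.Ex n U ((α.φ n).app U z) ↔ R.Ex n U z := by
  rw [← R'.cls_eq_zero_iff, ← R.cls_eq_zero_iff, α.cls]
  exact map_eq_zero_iff _ (HUmap_bijective α n U).1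

lemma Hom.exists_sub_ex (α : Hom R R') [IsIso (α.φ 0)] (n : ℕ) (U : X.Opens)
    (z' : Γ(R'.Z n, U)) : ∃ z : Γ(R.Z n, U), R'.Ex n U (z' - (α.φ n).app U z) := by
  obtain ⟨w, hw⟩ := (HUmap_bijective α n U).2 (R'.cls n U z')
  obtain ⟨z, rfl⟩ := R.cls_surjective n U w
  refine ⟨z, ?_⟩
  rw [← R'.cls_eq_zero_iff, map_sub, α.cls, hw, sub_self]

variable (f : X ⟶ Y)

/-- induced map on the models of higher direct images -/
noncomputable def Hom.rc (α : Hom R R') (n : ℕ) : R.Rc f n ⟶ R'.Rc f n :=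
  cokernel.map _ _ ((Scheme.Modules.pushforward f).map (α.ψ n))
    ((Scheme.Modules.pushforward f).map (α.φ (n + 1)))
    ((((Scheme.Modules.pushforward f).map_comp _ _).symm.trans
      (congrArg _ (α.p_comm n).symm)).trans ((Scheme.Modules.pushforward f).map_comp _ _))

lemma Hom.rc_π' (α : Hom R R') (n : ℕ) (V : Y.Opens) (z : Γ(R.Z (n + 1), f ⁻¹ᵁ V)) :
    (α.rc f n).app V (R.π' f n V z) = R'.π' f n V ((α.φ (n + 1)).app (f ⁻¹ᵁ V) z) :=
  congr($(congrArg (fun a ↦ Scheme.Modules.Hom.app a V)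
    (cokernel.π_desc (R.pP f n) _ _ : cokernel.π (R.pP f n) ≫ α.rc f n = _)) z)

lemma Hom.rc_injective (α : Hom R R') [IsIso (α.φ 0)] (n : ℕ) (V : Y.Opens) :
    Function.Injective ((α.rc f n).app V) := by
  refine (injective_iff_map_eq_zero _).2 fun x hx ↦ ?_
  have key : ∀ y : V, ∃ W : Y.Opens, ∃ h : W ≤ V, (y : Y) ∈ W ∧ rs (R.Rc f n) h x = 0 := by
    intro y
    obtain ⟨V₁, h₁, hy₁, z, hz⟩ := R.exists_locally_π' f n x y.1 y.2
    have h0 : R'.π' f n V₁ ((α.φ (n + 1)).app _ z) = 0 := by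
      rw [← α.rc_π' f n, hz, QCoh.app_res, hx, map_zero]
    obtain ⟨V₂, h₂, hy₂, hex⟩ := R'.exists_locally_ex f n h0 y.1 hy₁
    refine ⟨V₂, h₂.trans h₁, hy₂, ?_⟩
    rw [← QCoh.app_res] at hex
    rw [← QCoh.res_res (R.Rc f n) h₁ h₂, ← hz, π'_res]
    exact R.π'_eq_zero_of_ex f n ((α.ex_iff _ _ _).1 hex)
  choose W hW hyW hW0 using key
  exact QCoh.eq_zero_of_locally_eq_zero _ hW
    (fun y hy ↦ Opens.mem_iSup.2 ⟨⟨y, hy⟩, hyW _⟩) x hW0

lemma Hom.isIso_rc (α : Hom R R') [IsIso (α.φ 0)] (n : ℕ) : IsIso (α.rc f n) := by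
  refine isIso_of_affine_bijective _ fun V _ ↦ ⟨α.rc_injective f n V, ?_⟩
  · intro x'
    have key : ∀ y : V, ∃ W : Y.Opens, ∃ h : W ≤ V, (y : Y) ∈ W ∧
        ∃ x, (α.rc f n).app W x = rs (R'.Rc f n) h x' := by
      intro y
      obtain ⟨V₁, h₁, hy₁, z', hz'⟩ := R'.exists_locally_π' f n x' y.1 y.2
      obtain ⟨z, hz⟩ := α.exists_sub_ex (n + 1) (f ⁻¹ᵁ V₁) z'
      refine ⟨V₁, h₁, hy₁, R.π' f n V₁ z, ?_⟩
      rw [α.rc_π' f n, ← hz']
      exact (sub_eq_zero.1 ((map_sub _ _ _).symm.trans (R'.π'_eq_zero_of_ex f n hz))).symm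
    choose W hW hyW x hx using key
    obtain ⟨r, hr⟩ := QCoh.exists_glue (R.Rc f n) hW
      (fun y hy ↦ Opens.mem_iSup.2 ⟨⟨y, hy⟩, hyW _⟩) x fun i j ↦ by
        refine α.rc_injective f n _ ?_
        rw [QCoh.app_res, QCoh.app_res, hx, hx, QCoh.res_res, QCoh.res_res]
    refine ⟨r, QCoh.eq_of_locally_eq (R'.Rc f n) hW
      (fun y hy ↦ Opens.mem_iSup.2 ⟨⟨y, hy⟩, hyW _⟩) _ _ fun i ↦ ?_⟩
    rw [← QCoh.app_res, hr, hx]

/-- comparison of an arbitrary resolution with one by injectives -/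
noncomputable def rpushIsoRc [HasInjectiveResolutions X.Modules] (R : FRes X) (n : ℕ) :
    (Coh.Rpush f (n + 1)).obj (R.Z 0) ≅ R.Rc f n :=
  let I := injectiveResolution (R.Z 0)
  let α : Hom R (fresOf I) := Hom.lift I.injective (fresOfZ0Iso I).inv
  have : IsIso (α.φ 0) := inferInstanceAs (IsIso (fresOfZ0Iso I).inv)
  have := α.isIso_rc f n
  rpushSuccIso f I n ≪≫ (asIso (α.rc f n)).symm

end FRes

end Groth.Agent.CohAff
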