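import Groth.Agent.CohAff.Delta
import Mathlib.CategoryTheory.Limits.FunctorCategory.Shapes.Kernels

/-!
# Cohomology on an open as iterated cokernels of sections
-/

universe u

open CategoryTheory Limits Opposite TopologicalSpace Abelian

namespace Groth.Agent.CohAff

variable {X : TopCat.{u}}

lemma UAcyclic.quot {S : ShortComplex (AbSh X)} (hS : S.ShortExact) (h₁ : UAcyclic S.X₁)
    (h₂ : UAcyclic S.X₂) : UAcyclic S.X₃ :=
  fun ι V n ↦ (h₁.good (allCov X)).quot hS (h₂.good (allCov X)) (⨆ i, V i) ι V rfl n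

lemma UAcyclic.qt {F : AbSh X} (h : UAcyclic F) : UAcyclic (CohAff.qt F) :=
  UAcyclic.quot (gdSeq_shortExact F) h (uAcyclic_gd F)

lemma UAcyclic.sec_surjective {S : ShortComplex (AbSh X)} (hS : S.ShortExact) (h₁ : UAcyclic S.X₁)
    (W : Opens X) : Function.Surjective (sec S.g W) :=
  (h₁.good (allCov X)).sec_surjective hS trivial

lemma CovSys.Good.qt {C : CovSys X} {F : AbSh X} (h : C.Good F) : C.Good (CohAff.qt F) :=
  CovSys.Good.quot (gdSeq_shortExact F) h ((uAcyclic_gd F).good C)

/-- the Godement sheaf, as a functor -/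
noncomputable def gdFunctor (X : TopCat.{u}) : AbSh X ⥤ AbSh X where
  obj := gd
  map := gdMap
  map_id := gdMap_id
  map_comp := gdMap_comp

/-- the projection, natural -/
noncomputable def πNat (X : TopCat.{u}) : gdFunctor X ⟶ qtFunctor X where
  app F := cokernel.π (η F)
  naturality _ _ φ := (π_qMap φ).symm

/-- sections on an open, as a functor -/
noncomputable def secFunctor (W : Opens X) : AbSh X ⥤ AddCommGrpCat.{u} :=
  sheafToPresheaf _ _ ⋙ (evaluation _ _).obj (op W)

/-- `W`-sections of the projection -/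
noncomputable def secπ (W : Opens X) :
    gdFunctor X ⋙ secFunctor W ⟶ qtFunctor X ⋙ secFunctor W :=
  Functor.whiskerRight (πNat X) (secFunctor W)

/-- `H¹(W, ·)` as a cokernel of sections -/
noncomputable def hcOne (W : Opens X) : AbSh X ⥤ AddCommGrpCat.{u} where
  obj F := cokernel ((secπ W).app F)
  map φ := cokernel.map _ _ ((gdFunctor X ⋙ secFunctor W).map φ)
    ((qtFunctor X ⋙ secFunctor W).map φ) ((secπ W).naturality φ).symm
  map_id F := by
    rw [← cancel_epi (cokernel.π ((secπ W).app F))]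
    refine (cokernel.π_desc _ _ _).trans ?_
    rw [(qtFunctor X ⋙ secFunctor W).map_id]
    exact (Category.id_comp _).trans (Category.comp_id _).symm
  map_comp φ ψ := by
    rw [← cancel_epi (cokernel.π ((secπ W).app _))]
    refine (cokernel.π_desc _ _ _).trans ?_
    rw [(qtFunctor X ⋙ secFunctor W).map_comp, ← Category.assoc, cokernel.π_desc, Category.assoc,
      Category.assoc, cokernel.π_desc]

/-- `H^(n+1)(W, ·)` -/
noncomputable def hcSucc (W : Opens X) : ℕ → (AbSh X ⥤ AddCommGrpCat.{u})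
  | 0 => hcOne W
  | n + 1 => qtFunctor X ⋙ hcSucc W n

/-- `H^n(W, ·)` -/
noncomputable def hc (W : Opens X) : ℕ → (AbSh X ⥤ AddCommGrpCat.{u})
  | 0 => secFunctor W
  | n + 1 => hcSucc W n

/-- iterated quotient -/
noncomputable def qtIter : ℕ → AbSh X → AbSh X
  | 0, F => F
  | n + 1, F => qtIter n (qt F)

lemma qtIter_succ' : ∀ (n : ℕ) (F : AbSh X), qtIter (n + 1) F = qt (qtIter n F)
  | 0, _ => rfl
  | n + 1, F => qtIter_succ' n (qt F)

/-- `W` has no cohomology of degree `n+1` for `F` -/
def Lifts (W : Opens X) (F : AbSh X) : Prop :=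
  Function.Surjective (sec (gdSeq F).g W)

lemma isZero_hcSucc_iff (W : Opens X) :
    ∀ (n : ℕ) (F : AbSh X), IsZero ((hcSucc W n).obj F) ↔ Lifts W (qtIter n F)
  | 0, F => by
    change IsZero (cokernel ((secπ W).app F)) ↔ _
    constructor
    · intro h
      exact (AddCommGrpCat.epi_iff_surjective _).1 (Abelian.epi_of_cokernel_π_eq_zero _ (h.eq_of_tgt _ _))
    · intro h
      have : Epi ((secπ W).app F) := (AddCommGrpCat.epi_iff_surjective _).2 h
      exact isZero_cokernel_of_epi _
  | n + 1, F => isZero_hcSucc_iff W n (qt F)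

lemma UAcyclic.qtIter {F : AbSh X} (h : UAcyclic F) : ∀ n, UAcyclic (CohAff.qtIter n F)
  | 0 => h
  | n + 1 => by rw [qtIter_succ']; exact (h.qtIter n).qt

lemma CovSys.Good.qtIter {C : CovSys X} {F : AbSh X} (h : C.Good F) :
    ∀ n, C.Good (CohAff.qtIter n F)
  | 0 => h
  | n + 1 => by rw [qtIter_succ']; exact (h.qtIter n).qt

lemma isZero_hcSucc_of_uAcyclic (W : Opens X) (n : ℕ) {F : AbSh X} (h : UAcyclic F) :
    IsZero ((hcSucc W n).obj F) :=
  (isZero_hcSucc_iff W n F).2
    ((h.qtIter n).sec_surjective (gdSeq_shortExact _) W)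

lemma isZero_hcSucc_of_good (C : CovSys X) {W : Opens X} (hW : C.mem W) (n : ℕ) {F : AbSh X}
    (h : C.Good F) : IsZero ((hcSucc W n).obj F) :=
  (isZero_hcSucc_iff W n F).2 ((h.qtIter n).sec_surjective (gdSeq_shortExact _) hW)

/-- connecting maps of `hc` -/
noncomputable def hcδ (W : Opens X) : ∀ (n : ℕ) (F : AbSh X),
    (hc W n).obj (qt F) ⟶ (hc W (n + 1)).obj F
  | 0, F => cokernel.π ((secπ W).app F)
  | _ + 1, _ => 𝟙 _

lemma hc_w (W : Opens X) : ∀ (n : ℕ) (F : AbSh X),
    (hc W n).map (cokernel.π (η F)) ≫ hcδ W n F = 0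
  | 0, F => cokernel.condition _
  | n + 1, F => (isZero_hcSucc_of_uAcyclic W n (uAcyclic_gd F)).eq_of_src _ _

/-- cohomology on an open as a theory -/
noncomputable def secDelta (W : Opens X) : GdDelta (X := X) (fun _ ↦ True) where
  T := hc W
  δ n F _ := hcδ W n F
  w n F _ := hc_w W n F
  isCokernel n F _ :=
    match n with
    | 0 => cokernelIsCokernel ((secπ W).app F)
    | m + 1 =>
      CokernelCofork.IsColimit.ofId ((hc W (m + 1)).map (cokernel.π (η F)))
        ((isZero_hcSucc_of_uAcyclic W m (uAcyclic_gd F)).eq_of_src _ _)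
  δ_nat n {F F'} φ _ _ :=
    match n with
    | 0 => (cokernel.π_desc _ _ _).symm
    | _ + 1 => (Category.comp_id _).trans (Category.id_comp _).symm

/-- degree zero cohomology is global sections -/
noncomputable def h0Iso (F : AbSh X) :
    (Sheaf.functorH (Opens.grothendieckTopology X) 0).obj F ≅ (secFunctor ⊤).obj F :=
  (Sheaf.H.equiv₀ F isTerminalTop).toAddCommGrpIso

/-- sheaf cohomology against iterated cokernels -/
noncomputable def hIsoHcZero : GdDelta.DegreeIso (hDelta X) (secDelta ⊤) 0 where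
  app F _ := h0Iso F
  naturality {F F'} φ _ _ := by
    ext x
    exact (Sheaf.H.equiv₀_naturality isTerminalTop φ x).symm

/-- `H^n(X, ·)` is given by iterated cokernels of global sections -/
noncomputable def hIsoHc (n : ℕ) : GdDelta.DegreeIso (hDelta X) (secDelta (⊤ : Opens X)) n :=
  GdDelta.degreeIso (fun _ ↦ trivial) (fun _ _ ↦ trivial) hIsoHcZero n

lemma subsingleton_H_iff (F : AbSh X) (n : ℕ) :
    Subsingleton (Sheaf.H F (n + 1)) ↔ Lifts ⊤ (qtIter n F) := by
  rw [← isZero_hcSucc_iff]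
  constructor
  · intro h
    have : Subsingleton (((hDelta X).T (n + 1)).obj F) := h
    exact (AddCommGrpCat.isZero_of_subsingleton _).of_iso ((hIsoHc (n + 1)).app F trivial).symm
  · intro h
    exact AddCommGrpCat.subsingleton_of_isZero (h.of_iso ((hIsoHc (n + 1)).app F trivial))

end Groth.Agent.CohAff
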