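import Groth.Agent.CohAff.AffineCech
import Groth.Agent.CohAff.SectDelta
import Groth.Agent.CohTop.CechBasic
import Groth.Agent.QCoh.Exact
import Groth.Agent.QCoh.Qcqs
import Groth.Agent.ModShf.Flasque

/-!
# Flasque resolutions of modules, on sections

A resolution is cut into short exact sequences `0 ⟶ Z n ⟶ J n ⟶ Z (n+1) ⟶ 0`.  The cohomology in
degree `n` on an open `W` is `Γ(Z n, W)` modulo the predicate `FRes.Ex n W`.  For `Z 0`
quasi-coherent it commutes with localisation at a function (`FRes.Loc`), on qcqs opens.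
-/

universe u

open CategoryTheory Limits Opposite TopologicalSpace AlgebraicGeometry

namespace Groth.Agent.CohAff

open Groth.Agent.QCoh (rres_rres app_res)

local notation "rs" => Groth.Agent.QCoh.res
local notation "rr" => Groth.Agent.QCoh.rres

variable {X : Scheme.{u}}

/-- a resolution by flasque modules, cut into short exact sequences -/
structure FRes (X : Scheme.{u}) : Type (u + 1) where
  /-- cocycles -/
  Z : ℕ → X.Modules
  /-- terms -/
  J : ℕ → X.Modules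
  /-- inclusion -/
  ι : ∀ n, Z n ⟶ J n
  /-- differential -/
  p : ∀ n, J n ⟶ Z (n + 1)
  w : ∀ n, ι n ≫ p n = 0
  exact : ∀ n, (ShortComplex.mk (ι n) (p n) (w n)).ShortExact
  flasque : ∀ n, TopCat.Sheaf.IsFlasque (X := X.toTopCat) (Coh.toAb (J n))

namespace FRes

variable (R : FRes X)

/-- the underlying sequences of abelian sheaves -/
noncomputable abbrev abSeq (n : ℕ) :=
  (ShortComplex.mk (R.ι n) (R.p n) (R.w n)).map (ModShf.toAbFunctor X)

lemma abSeq_shortExact (n : ℕ) :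
    ShortComplex.ShortExact (C := AbSh X.toTopCat) (R.abSeq n) :=
  (R.exact n).map_of_exact (ModShf.toAbFunctor X)

lemma uAcyclic_J (n : ℕ) : UAcyclic (X := X.toTopCat) (Coh.toAb (R.J n)) :=
  fun _ V m ↦ @CohTop.CechBasic.flasque_cechExact X.toTopCat _ m _ (R.flasque n) V

lemma extend_J (n : ℕ) {W' W : X.Opens} (h : W' ≤ W) (x : Γ(R.J n, W')) :
    ∃ y : Γ(R.J n, W), rs (R.J n) h y = x := by
  have := R.flasque n
  exact (AddCommGrpCat.epi_iff_surjective _).1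
    (TopCat.Presheaf.IsFlasque.epi (F := (Coh.toAb (R.J n)).obj) (homOfLE h).op) x

lemma ι_injective (n : ℕ) (W : X.Opens) : Function.Injective ((R.ι n).app W) :=
  have : Mono (R.ι n) := (R.exact n).mono_f
  QCoh.app_injective_of_mono _ W

lemma exists_ι_eq (n : ℕ) {W : X.Opens} {a : Γ(R.J n, W)} (h : (R.p n).app W a = 0) :
    ∃ z, (R.ι n).app W z = a :=
  have : Mono (R.ι n) := (R.exact n).mono_f
  QCoh.exists_app_eq_of_app_eq_zero (ShortComplex.mk (R.ι n) (R.p n) (R.w n)) (R.exact n).exact W a h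

lemma p_ι (n : ℕ) (W : X.Opens) (z : Γ(R.Z n, W)) : (R.p n).app W ((R.ι n).app W z) = 0 :=
  QCoh.app_app_eq_zero (ShortComplex.mk (R.ι n) (R.p n) (R.w n)) W z

/-- being a coboundary -/
def Ex : ∀ (n : ℕ) (W : X.Opens), Γ(R.Z n, W) → Prop
  | 0, _, z => z = 0
  | n + 1, W, z => ∃ a : Γ(R.J n, W), (R.p n).app W a = z

variable {R}

lemma Ex.zero (n : ℕ) (W : X.Opens) : R.Ex n W 0 := by
  rcases n with _ | n
  · rfl
  · exact ⟨0, map_zero _⟩

lemma Ex.add {n : ℕ} {W : X.Opens} {x y : Γ(R.Z n, W)} (hx : R.Ex n W x) (hy : R.Ex n W y) :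
    R.Ex n W (x + y) := by
  rcases n with _ | n
  · rw [show x = 0 from hx, show y = 0 from hy]
    exact add_zero 0
  · obtain ⟨a, rfl⟩ := hx
    obtain ⟨b, rfl⟩ := hy
    exact ⟨a + b, map_add _ _ _⟩

lemma Ex.neg {n : ℕ} {W : X.Opens} {x : Γ(R.Z n, W)} (hx : R.Ex n W x) : R.Ex n W (-x) := by
  rcases n with _ | n
  · rw [show x = 0 from hx]
    exact neg_zero
  · obtain ⟨a, rfl⟩ := hx
    exact ⟨-a, map_neg _ _⟩

lemma Ex.sub {n : ℕ} {W : X.Opens} {x y : Γ(R.Z n, W)} (hx : R.Ex n W x) (hy : R.Ex n W y) :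
    R.Ex n W (x - y) := sub_eq_add_neg x y ▸ hx.add hy.neg

lemma Ex.smul {n : ℕ} {W : X.Opens} (r : Γ(X, W)) {x : Γ(R.Z n, W)} (hx : R.Ex n W x) :
    R.Ex n W (r • x) := by
  rcases n with _ | n
  · rw [show x = 0 from hx]
    exact smul_zero r
  · obtain ⟨a, rfl⟩ := hx
    exact ⟨r • a, Scheme.Modules.Hom.app_smul _ _ _⟩

lemma Ex.res {n : ℕ} {W W' : X.Opens} (h : W' ≤ W) {x : Γ(R.Z n, W)} (hx : R.Ex n W x) :
    R.Ex n W' (rs (R.Z n) h x) := by
  rcases n with _ | n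
  · rw [show x = 0 from hx]
    exact map_zero _
  · obtain ⟨a, rfl⟩ := hx
    exact ⟨rs (R.J n) h a, app_res _ _ _⟩

/-- coboundaries extend to coboundaries -/
lemma Ex.extend {n : ℕ} {W W' : X.Opens} (h : W' ≤ W) {x : Γ(R.Z n, W')} (hx : R.Ex n W' x) :
    ∃ y, R.Ex n W y ∧ rs (R.Z n) h y = x := by
  rcases n with _ | n
  · exact ⟨0, rfl, (map_zero _).trans (show x = 0 from hx).symm⟩
  · obtain ⟨a, rfl⟩ := hx
    obtain ⟨b, hb⟩ := R.extend_J n h a
    exact ⟨(R.p n).app W b, ⟨b, rfl⟩, by rw [← app_res, hb]⟩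

variable (R)

/-- two sections glue -/
lemma glue₂ (M : X.Modules) {U V : X.Opens} (s : Γ(M, U)) (t : Γ(M, V))
    (h : rs M (inf_le_left : U ⊓ V ≤ U) s = rs M inf_le_right t) :
    ∃ r : Γ(M, U ⊔ V), rs M le_sup_left r = s ∧ rs M le_sup_right r = t := by
  let F : Bool → X.Opens := fun b ↦ cond b U V
  obtain ⟨r, hr⟩ := QCoh.exists_glue M (U := F) (V := U ⊔ V)
    (fun b ↦ by cases b; exacts [le_sup_right, le_sup_left])
    (sup_le (le_iSup F true) (le_iSup F false))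
    (fun b ↦ match b with | true => s | false => t) (by
      intro b b'
      cases b <;> cases b'
      · rfl
      · change rs M (inf_le_left : V ⊓ U ≤ V) t = rs M inf_le_right s
        have := congrArg (rs M (inf_comm V U).le) h
        rw [QCoh.res_res, QCoh.res_res] at this
        exact this.symm
      · exact h
      · rfl)
  exact ⟨r, hr true, hr false⟩

lemma eq_of_res₂ (M : X.Modules) {U V : X.Opens} (s t : Γ(M, U ⊔ V))
    (h₁ : rs M le_sup_left s = rs M le_sup_left t)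
    (h₂ : rs M le_sup_right s = rs M le_sup_right t) : s = t :=
  QCoh.eq_of_locally_eq M (U := fun b : Bool ↦ cond b U V)
    (fun b ↦ by cases b; exacts [le_sup_right, le_sup_left])
    (sup_le (le_iSup (fun b : Bool ↦ cond b U V) true) (le_iSup (fun b : Bool ↦ cond b U V) false))
    s t (fun b ↦ by cases b; exacts [h₂, h₁])

/-! ### vanishing -/

/-- no cohomology of degree `n` on `W` -/
def Van (n : ℕ) (W : X.Opens) : Prop := ∀ z : Γ(R.Z n, W), R.Ex n W z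

variable {R}

lemma van_succ_of_isAffineOpen [hq : (R.Z 0).IsQuasicoherent] {W : X.Opens} (hW : IsAffineOpen W)
    (n : ℕ) : R.Van (n + 1) W := by
  have hgood : ∀ m, (affCov X).Good (Coh.toAb (R.Z m)) := by
    intro m
    induction m with
    | zero => exact good_affCov _
    | succ m ih =>
      exact CovSys.Good.quot (R.abSeq_shortExact m) ih ((R.uAcyclic_J m).good _)
  exact fun z ↦ (hgood n).sec_surjective (R.abSeq_shortExact n) hW z

lemma Van.sup {U V : X.Opens} {n : ℕ} (hU : R.Van (n + 2) U) (hV : R.Van (n + 2) V)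
    (hUV : R.Van (n + 1) (U ⊓ V)) : R.Van (n + 2) (U ⊔ V) := by
  intro z
  obtain ⟨a, ha⟩ := hU (rs _ le_sup_left z)
  obtain ⟨b, hb⟩ := hV (rs _ le_sup_right z)
  obtain ⟨e, he⟩ := R.exists_ι_eq (n + 1) (W := U ⊓ V)
    (a := rs _ inf_le_left a - rs _ inf_le_right b) (by
      rw [map_sub, app_res, app_res, ha, hb, QCoh.res_res, QCoh.res_res, sub_self])
  obtain ⟨y, hy, hye⟩ := Ex.extend (inf_le_right : U ⊓ V ≤ V) (hUV e)
  obtain ⟨c, hc₁, hc₂⟩ := glue₂ (R.J (n + 1)) a (b + (R.ι (n + 1)).app V y) (by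
    rw [map_add, ← app_res, hye, he, add_sub_cancel])
  refine ⟨c, eq_of_res₂ (R.Z (n + 2)) _ _ ?_ ?_⟩
  · rw [← app_res, hc₁]
    exact ha
  · rw [← app_res, hc₂, map_add, R.p_ι]
    exact (add_zero _).trans hb

/-! ### localisation -/

lemma inf_basicOpen_le {X₀ W : X.Opens} (g : Γ(X, X₀)) (hW : W ≤ X₀) :
    W ⊓ X.basicOpen g ≤ X₀ := inf_le_left.trans hW

variable (R) in
/-- cohomology of degree `n` on `W` localises at `g` -/
structure Loc (n : ℕ) {X₀ : X.Opens} (g : Γ(X, X₀)) (W : X.Opens) (hW : W ≤ X₀) : Prop where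
  surj : ∀ (z : Γ(R.Z n, W ⊓ X.basicOpen g)), ∃ (N : ℕ) (w : Γ(R.Z n, W)),
    R.Ex n _ (rs (R.Z n) (inf_le_left : W ⊓ X.basicOpen g ≤ W) w - rr (inf_basicOpen_le g hW) g ^ N • z)
  inj : ∀ w : Γ(R.Z n, W), R.Ex n _ (rs (R.Z n) (inf_le_left : W ⊓ X.basicOpen g ≤ W) w) →
    ∃ N : ℕ, R.Ex n W (rr hW g ^ N • w)

section Loc

variable {X₀ : X.Opens} (g : Γ(X, X₀))

lemma res_pow_smul (M : X.Modules) {W W' : X.Opens} (h : W' ≤ W) (hW : W ≤ X₀) (N : ℕ)
    (s : Γ(M, W)) : rs M h (rr hW g ^ N • s) = rr (h.trans hW) g ^ N • rs M h s := by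
  rw [QCoh.res_smul, map_pow, rres_rres]

lemma app_pow_smul {M M' : X.Modules} (φ : M ⟶ M') {W : X.Opens} (hW : W ≤ X₀) (N : ℕ)
    (s : Γ(M, W)) : φ.app W (rr hW g ^ N • s) = rr hW g ^ N • φ.app W s :=
  Scheme.Modules.Hom.app_smul _ _ _

/-- a preimage of `w` restricted can be corrected to restrict to a multiple of a given one -/
lemma Loc.correct {n : ℕ} {W : X.Opens} {hW : W ≤ X₀} (h : R.Loc n g W hW) (a : Γ(R.J n, W))
    (b : Γ(R.J n, W ⊓ X.basicOpen g)) (hab : (R.p n).app _ (rs _ inf_le_left a - b) = 0) :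
    ∃ (M : ℕ) (a' : Γ(R.J n, W)), (R.p n).app W a' = rr hW g ^ M • (R.p n).app W a ∧
      rs _ (inf_le_left : W ⊓ X.basicOpen g ≤ W) a' = rr (inf_basicOpen_le g hW) g ^ M • b := by
  obtain ⟨ζ, hζ⟩ := R.exists_ι_eq n hab
  obtain ⟨M, w, hw⟩ := h.surj ζ
  obtain ⟨y, -, hy⟩ := hw.extend inf_le_left
  refine ⟨M, rr hW g ^ M • a - (R.ι n).app W (w - y), ?_, ?_⟩
  · rw [map_sub, R.p_ι, sub_zero, app_pow_smul]
  · rw [map_sub, res_pow_smul, ← app_res, map_sub (rs (R.Z n) (inf_le_left : W ⊓ X.basicOpen g ≤ W)).hom, hy, sub_sub_cancel, app_pow_smul,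
      hζ, smul_sub, sub_sub_cancel]

lemma Loc.inj_sup {U V : X.Opens} (hUV : U ⊔ V ≤ X₀) {n : ℕ}
    (h₁ : R.Loc (n + 1) g U (le_sup_left.trans hUV)) (h₁' : R.Loc n g U (le_sup_left.trans hUV))
    (h₂ : R.Loc (n + 1) g V (le_sup_right.trans hUV)) (h₂' : R.Loc n g V (le_sup_right.trans hUV))
    (h₁₂ : R.Loc n g (U ⊓ V) (inf_le_left.trans (le_sup_left.trans hUV)))
    (w : Γ(R.Z (n + 1), U ⊔ V))
    (hw : R.Ex (n + 1) _ (rs (R.Z (n + 1)) (inf_le_left : (U ⊔ V) ⊓ X.basicOpen g ≤ U ⊔ V) w)) :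
    ∃ N : ℕ, R.Ex (n + 1) (U ⊔ V) (rr hUV g ^ N • w) := by
  obtain ⟨b, hb⟩ := hw
  have side : ∀ (A : X.Opens) (hA : A ≤ U ⊔ V), R.Loc (n + 1) g A (hA.trans hUV) →
      R.Loc n g A (hA.trans hUV) →
      ∃ N, ∀ K, N ≤ K → ∃ a : Γ(R.J n, A),
        (R.p n).app A a = rr (hA.trans hUV) g ^ K • rs _ hA w ∧
        rs _ (inf_le_left : A ⊓ X.basicOpen g ≤ A) a = rr (inf_basicOpen_le g (hA.trans hUV)) g ^ K •
          rs _ (inf_le_inf_right _ hA) b := by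
    intro A hA hs hp
    obtain ⟨N, a, ha⟩ := hs.inj (rs _ hA w)
      ⟨rs _ (inf_le_inf_right _ hA) b, by rw [app_res, hb, QCoh.res_res, QCoh.res_res]⟩
    obtain ⟨M, a', ha', har⟩ := hp.correct g a
      (rr (inf_basicOpen_le g (hA.trans hUV)) g ^ N • rs _ (inf_le_inf_right _ hA) b) (by
      rw [map_sub, app_res, ha, app_pow_smul, app_res, hb, res_pow_smul, QCoh.res_res,
        QCoh.res_res, sub_self])
    refine ⟨M + N, fun K hK ↦ ?_⟩
    obtain ⟨d, rfl⟩ := Nat.exists_eq_add_of_le' hK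
    refine ⟨rr (hA.trans hUV) g ^ d • a', ?_, ?_⟩
    · rw [app_pow_smul, ha', ha, smul_smul, smul_smul, ← pow_add, ← pow_add, add_assoc]
    · rw [res_pow_smul, har, smul_smul, smul_smul, ← pow_add, ← pow_add, add_assoc]
  obtain ⟨N₁, hN₁⟩ := side U le_sup_left h₁ h₁'
  obtain ⟨N₂, hN₂⟩ := side V le_sup_right h₂ h₂'
  obtain ⟨a₁, ha₁, hr₁⟩ := hN₁ (max N₁ N₂) (le_max_left _ _)
  obtain ⟨a₂, ha₂, hr₂⟩ := hN₂ (max N₁ N₂) (le_max_right _ _)
  obtain ⟨ε, hε⟩ := R.exists_ι_eq n (W := U ⊓ V)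
    (a := rs _ inf_le_left a₁ - rs _ inf_le_right a₂) (by
      rw [map_sub, app_res, app_res, ha₁, ha₂, res_pow_smul, res_pow_smul, QCoh.res_res,
        QCoh.res_res, sub_self])
  obtain ⟨L, hL⟩ := h₁₂.inj ε (by
    have : rs (R.Z n) (inf_le_left : U ⊓ V ⊓ X.basicOpen g ≤ U ⊓ V) ε = 0 := by
      apply R.ι_injective n
      have e₁ := congrArg (rs (R.J n)
        (inf_le_inf_right _ inf_le_left : U ⊓ V ⊓ X.basicOpen g ≤ U ⊓ X.basicOpen g)) hr₁
      have e₂ := congrArg (rs (R.J n)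
        (inf_le_inf_right _ inf_le_right : U ⊓ V ⊓ X.basicOpen g ≤ V ⊓ X.basicOpen g)) hr₂
      rw [QCoh.res_res, res_pow_smul, QCoh.res_res] at e₁ e₂
      rw [app_res, hε, map_sub, map_zero, QCoh.res_res, QCoh.res_res, e₁, e₂, sub_self]
    rw [this]
    exact Ex.zero _ _)
  obtain ⟨y, -, hy⟩ := hL.extend (inf_le_right : U ⊓ V ≤ V)
  obtain ⟨a, hal, har⟩ := glue₂ (R.J n) (rr (le_sup_left.trans hUV) g ^ L • a₁)
    (rr (le_sup_right.trans hUV) g ^ L • a₂ + (R.ι n).app V y) (by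
      rw [map_add, res_pow_smul, res_pow_smul, ← app_res, hy, app_pow_smul, hε, smul_sub,
        add_sub_cancel])
  refine ⟨L + max N₁ N₂, a, eq_of_res₂ (R.Z (n + 1)) _ _ ?_ ?_⟩
  · rw [← app_res, hal, app_pow_smul, ha₁, smul_smul, ← pow_add, res_pow_smul]
  · rw [← app_res, har, map_add, R.p_ι, add_zero, app_pow_smul, ha₂, smul_smul, ← pow_add,
      res_pow_smul]

lemma Loc.surj_sup {U V : X.Opens} (hUV : U ⊔ V ≤ X₀) {n : ℕ}
    (h₁ : R.Loc (n + 1) g U (le_sup_left.trans hUV))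
    (h₂ : R.Loc (n + 1) g V (le_sup_right.trans hUV))
    (h₁₂ : R.Loc (n + 1) g (U ⊓ V) (inf_le_left.trans (le_sup_left.trans hUV)))
    (h₁₂' : R.Loc n g (U ⊓ V) (inf_le_left.trans (le_sup_left.trans hUV)))
    (z : Γ(R.Z (n + 1), (U ⊔ V) ⊓ X.basicOpen g)) :
    ∃ (N : ℕ) (w : Γ(R.Z (n + 1), U ⊔ V)), R.Ex (n + 1) _
      (rs (R.Z (n + 1)) (inf_le_left : (U ⊔ V) ⊓ X.basicOpen g ≤ U ⊔ V) w -
        rr (inf_basicOpen_le g hUV) g ^ N • z) := by
  have side : ∀ (A : X.Opens) (hA : A ≤ U ⊔ V), R.Loc (n + 1) g A (hA.trans hUV) →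
      ∃ N, ∀ K, N ≤ K → ∃ w : Γ(R.Z (n + 1), A),
        rs _ (inf_le_left : A ⊓ X.basicOpen g ≤ A) w = rr (inf_basicOpen_le g (hA.trans hUV)) g ^ K •
          rs _ (inf_le_inf_right _ hA) z := by
    intro A hA hs
    obtain ⟨N, w, hw⟩ := hs.surj (rs _ (inf_le_inf_right _ hA) z)
    obtain ⟨y, -, hy⟩ := hw.extend inf_le_left
    refine ⟨N, fun K hK ↦ ?_⟩
    obtain ⟨d, rfl⟩ := Nat.exists_eq_add_of_le' hK
    refine ⟨rr (hA.trans hUV) g ^ d • (w - y), ?_⟩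
    rw [res_pow_smul, map_sub, hy, sub_sub_cancel, smul_smul, ← pow_add]
  obtain ⟨N₁, hN₁⟩ := side U le_sup_left h₁
  obtain ⟨N₂, hN₂⟩ := side V le_sup_right h₂
  obtain ⟨w₁, hw₁⟩ := hN₁ (max N₁ N₂) (le_max_left _ _)
  obtain ⟨w₂, hw₂⟩ := hN₂ (max N₁ N₂) (le_max_right _ _)
  obtain ⟨L, c, hc⟩ := h₁₂.inj
    (rs (R.Z (n + 1)) inf_le_left w₁ - rs (R.Z (n + 1)) inf_le_right w₂) (by
      have e₁ := congrArg (rs (R.Z (n + 1))
        (inf_le_inf_right _ inf_le_left : U ⊓ V ⊓ X.basicOpen g ≤ U ⊓ X.basicOpen g)) hw₁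
      have e₂ := congrArg (rs (R.Z (n + 1))
        (inf_le_inf_right _ inf_le_right : U ⊓ V ⊓ X.basicOpen g ≤ V ⊓ X.basicOpen g)) hw₂
      rw [QCoh.res_res, res_pow_smul, QCoh.res_res] at e₁ e₂
      rw [map_sub, QCoh.res_res, QCoh.res_res, e₁, e₂, sub_self]
      exact Ex.zero _ _)
  -- make the bounding cochain vanish on the basic open
  obtain ⟨M, c', hc', hc0⟩ := h₁₂'.correct g c 0 (by
    rw [sub_zero, app_res, hc, res_pow_smul]
    have e₁ := congrArg (rs (R.Z (n + 1))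
        (inf_le_inf_right _ inf_le_left : U ⊓ V ⊓ X.basicOpen g ≤ U ⊓ X.basicOpen g)) hw₁
    have e₂ := congrArg (rs (R.Z (n + 1))
        (inf_le_inf_right _ inf_le_right : U ⊓ V ⊓ X.basicOpen g ≤ V ⊓ X.basicOpen g)) hw₂
    rw [QCoh.res_res, res_pow_smul, QCoh.res_res] at e₁ e₂
    rw [map_sub, QCoh.res_res, QCoh.res_res, e₁, e₂, sub_self, smul_zero])
  rw [smul_zero] at hc0
  -- extend it by zero over `V ⊓ D(g)` and then to `V`
  obtain ⟨d, hd₁, hd₂⟩ := glue₂ (R.J n) c' (0 : Γ(R.J n, V ⊓ X.basicOpen g)) (by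
    have := congrArg (rs (R.J n) (le_inf inf_le_left (inf_le_right.trans inf_le_right) :
      U ⊓ V ⊓ (V ⊓ X.basicOpen g) ≤ U ⊓ V ⊓ X.basicOpen g)) hc0
    rw [QCoh.res_res, map_zero] at this
    rw [map_zero, ← this])
  obtain ⟨e, he⟩ := R.extend_J n (sup_le inf_le_right inf_le_left :
    (U ⊓ V) ⊔ (V ⊓ X.basicOpen g) ≤ V) d
  have he₁ : rs (R.J n) (inf_le_right : U ⊓ V ≤ V) e = c' := by rw [← hd₁, ← he, QCoh.res_res]
  have he₂ : rs (R.J n) (inf_le_left : V ⊓ X.basicOpen g ≤ V) e = 0 := by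
    rw [← hd₂, ← he, QCoh.res_res]
  obtain ⟨w, hwl, hwr⟩ := glue₂ (R.Z (n + 1)) (rr (le_sup_left.trans hUV) g ^ (M + L) • w₁)
    (rr (le_sup_right.trans hUV) g ^ (M + L) • w₂ + (R.p n).app V e) (by
      rw [map_add, res_pow_smul, res_pow_smul, ← app_res, he₁, hc', hc, smul_smul, ← pow_add,
        smul_sub, add_sub_cancel])
  refine ⟨M + L + max N₁ N₂, w, ?_⟩
  have : rs (R.Z (n + 1)) (inf_le_left : (U ⊔ V) ⊓ X.basicOpen g ≤ U ⊔ V) w =
      rr (inf_basicOpen_le g hUV) g ^ (M + L + max N₁ N₂) • z := by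
    refine QCoh.eq_of_locally_eq (R.Z (n + 1))
      (U := fun b : Bool ↦ cond b (U ⊓ X.basicOpen g) (V ⊓ X.basicOpen g))
      (fun b ↦ by cases b; exacts [inf_le_inf_right _ le_sup_right, inf_le_inf_right _ le_sup_left])
      ?_ _ _ (fun b ↦ ?_)
    · rw [inf_sup_right]
      exact sup_le (le_iSup (fun b : Bool ↦ cond b (U ⊓ X.basicOpen g) (V ⊓ X.basicOpen g)) true)
        (le_iSup (fun b : Bool ↦ cond b (U ⊓ X.basicOpen g) (V ⊓ X.basicOpen g)) false)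
    · cases b
      · have := congrArg (rs (R.Z (n + 1)) (inf_le_left : V ⊓ X.basicOpen g ≤ V)) hwr
        rw [QCoh.res_res, map_add, res_pow_smul, ← app_res, he₂, map_zero, add_zero, hw₂,
          smul_smul, ← pow_add] at this
        rw [QCoh.res_res, res_pow_smul]
        exact this
      · have := congrArg (rs (R.Z (n + 1)) (inf_le_left : U ⊓ X.basicOpen g ≤ U)) hwl
        rw [QCoh.res_res, res_pow_smul, hw₁, smul_smul, ← pow_add] at this
        rw [QCoh.res_res, res_pow_smul]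
        exact this
  rw [this, sub_self]
  exact Ex.zero _ _

lemma loc_zero [hq : (R.Z 0).IsQuasicoherent] {W : X.Opens} (hW : W ≤ X₀)
    (hc : IsCompact (W : Set X)) (hqs : IsQuasiSeparated (W : Set X)) : R.Loc 0 g W hW := by
  have e : W ⊓ X.basicOpen g = X.basicOpen (rr hW g) := (X.basicOpen_res _ _).symm
  have H := (QCoh.IsLocalizingOn.congr_iff (h' := (inf_le_left : W ⊓ X.basicOpen g ≤ W)) rfl e).mp
    (QCoh.isLocalizingAt_of_qcqs (R.Z 0) hc hqs (rr hW g))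
  rw [QCoh.rres_self] at H
  refine ⟨fun z ↦ ?_, fun w hw ↦ ?_⟩
  · obtain ⟨N, w, hw⟩ := H.surj z
    refine ⟨N, w, ?_⟩
    rw [rres_rres] at hw
    exact sub_eq_zero.2 hw
  · exact H.eq_zero w hw

lemma loc_of_isAffineOpen [hq : (R.Z 0).IsQuasicoherent] {W : X.Opens} (hW : W ≤ X₀)
    (hA : IsAffineOpen W) : ∀ n, R.Loc n g W hW
  | 0 => loc_zero g hW hA.isCompact hA.isQuasiSeparated
  | n + 1 =>
    { surj := fun z ↦ by
        have hB : IsAffineOpen (W ⊓ X.basicOpen g) := by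
          rw [show W ⊓ X.basicOpen g = X.basicOpen (rr hW g) from (X.basicOpen_res _ _).symm]
          exact hA.basicOpen _
        exact ⟨0, 0, van_succ_of_isAffineOpen hB n _⟩
      inj := fun w _ ↦ ⟨0, van_succ_of_isAffineOpen hA n _⟩ }

lemma Loc.sup [hq : (R.Z 0).IsQuasicoherent] {U V : X.Opens} (hUV : U ⊔ V ≤ X₀)
    (hc : IsCompact ((U ⊔ V : X.Opens) : Set X))
    (hqs : IsQuasiSeparated ((U ⊔ V : X.Opens) : Set X))
    (h₁ : ∀ n, R.Loc n g U (le_sup_left.trans hUV))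
    (h₂ : ∀ n, R.Loc n g V (le_sup_right.trans hUV))
    (h₁₂ : ∀ n, R.Loc n g (U ⊓ V) (inf_le_left.trans (le_sup_left.trans hUV))) :
    ∀ n, R.Loc n g (U ⊔ V) hUV
  | 0 => loc_zero g hUV hc hqs
  | n + 1 =>
    ⟨surj_sup g hUV (h₁ _) (h₂ _) (h₁₂ _) (h₁₂ _),
      inj_sup g hUV (h₁ _) (h₁ _) (h₂ _) (h₂ _) (h₁₂ _)⟩

end Loc

end FRes

end Groth.Agent.CohAff
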