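import Groth.Agent.CohAff.Cartan

/-!
# From Čech cocycles to sheaf cohomology, naturally in the sheaf

For a covering `U` of a space and an abelian sheaf `F` we define, by dimension shifting along the
Godement sequence, a natural map from Čech `n`-cocycles to `H^n(X, F)`.  It kills coboundaries; if
`F` is Čech acyclic for a covering system containing all intersections of `U`, it is surjective and
its kernel consists of the coboundaries.
-/

universe u

open CategoryTheory Limits Opposite TopologicalSpace Abelian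

namespace Groth.Agent.CohAff

variable {X : TopCat.{u}} {ι : Type u} {U : ι → Opens X}

/-- restriction of a global section to the members of a covering -/
noncomputable def aug (P : TopCat.Presheaf AddCommGrpCat.{u} X) (U : ι → Opens X) :
    P.obj (op ⊤) →+ Cochain P U 0 :=
  AddMonoidHom.mk' (fun s _ ↦ res P le_top s) fun _ _ ↦ funext fun _ ↦ map_add _ _ _

lemma aug_apply (P : TopCat.Presheaf AddCommGrpCat.{u} X) (U : ι → Opens X) (s : P.obj (op ⊤))
    (x : Fin 1 → ι) : aug P U s x = res P le_top s := rfl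

lemma cd_aug (P : TopCat.Presheaf AddCommGrpCat.{u} X) (s : P.obj (op ⊤)) :
    cd P U 0 (aug P U s) = 0 := by
  funext x
  rw [cd_zero_apply, aug_apply, aug_apply, res_res, res_res]
  exact sub_self _

lemma cmap_aug {P Q : TopCat.Presheaf AddCommGrpCat.{u} X} (φ : P ⟶ Q) (s : P.obj (op ⊤)) :
    cmap φ U 0 (aug P U s) = aug Q U ((φ.app (op ⊤)).hom s) := by
  funext x
  rw [cmap_apply, aug_apply, aug_apply, res_app]

lemma aug_injective (F : AbSh X) (hU : ⨆ i, U i = ⊤) : Function.Injective (aug F.obj U) := by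
  intro s t h
  refine TopCat.Sheaf.eq_of_locally_eq' F U ⊤ (fun i ↦ homOfLE le_top) hU.ge s t fun i ↦ ?_
  change res F.obj le_top s = res F.obj le_top t
  have h' := congrArg (res F.obj (le_inter (U := U) (x := fun _ : Fin 1 ↦ i) (W := U i)
    fun _ ↦ le_rfl)) (congrFun h fun _ ↦ i)
  rwa [aug_apply, aug_apply, res_res, res_res] at h'

lemma exists_aug_eq (F : AbSh X) (hU : ⨆ i, U i = ⊤) {c : Cochain F.obj U 0}
    (hc : cd F.obj U 0 c = 0) : ∃ s, aug F.obj U s = c := by
  have h1 : ∀ i, U i ≤ inter U (fun _ : Fin 1 ↦ i) := fun i ↦ le_inter fun _ ↦ le_rfl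
  let sf : ∀ i, F.obj.obj (op (U i)) := fun i ↦ res F.obj (h1 i) (c fun _ ↦ i)
  have hcongr : ∀ (W : Opens X) (y : Fin 1 → ι) (l : ι) (_ : y = fun _ ↦ l) (hy : W ≤ inter U y)
      (hl : W ≤ U l), res F.obj hy (c y) = res F.obj hl (sf l) := by
    rintro W y l rfl hy hl
    exact (res_res _ _ _ _).symm
  have hcompat : TopCat.Presheaf.IsCompatible F.obj U sf := by
    intro i j
    have h := congrFun hc ![i, j]
    rw [cd_zero_apply, Pi.zero_apply, sub_eq_zero] at h
    have hle2 : U i ⊓ U j ≤ inter U ![i, j] := le_inter fun a ↦ by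
      fin_cases a
      · exact inf_le_left
      · exact inf_le_right
    have h' := congrArg (res F.obj hle2) h
    rw [res_res, res_res, hcongr _ _ j (by funext a; fin_cases a; rfl) _ inf_le_right,
      hcongr _ _ i (by funext a; fin_cases a; rfl) _ inf_le_left] at h'
    exact h'.symm
  obtain ⟨s, hs, -⟩ := TopCat.Sheaf.existsUnique_gluing' F U ⊤ (fun i ↦ homOfLE le_top) hU.ge
    sf hcompat
  refine ⟨s, funext fun x ↦ ?_⟩
  have hx : x = fun _ ↦ x 0 := funext fun a ↦ by rw [Fin.eq_zero a]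
  refine (res_res F.obj le_top (inter_le U x 0) s).symm.trans ?_
  rw [show res F.obj le_top s = sf (x 0) from hs (x 0)]
  refine (hcongr _ x (x 0) hx le_rfl _).symm.trans (res_self _ _ _)

/-- a bounding cochain in the Godement sheaf -/
lemma exists_bound (F : AbSh X) {n : ℕ} {c : Cochain F.obj U (n + 1)}
    (hc : cd F.obj U (n + 1) c = 0) :
    ∃ b : Cochain (gd F).obj U n, cd (gd F).obj U n b = cmap (η F).hom U (n + 1) c :=
  uAcyclic_gd F ι U n _ (by rw [cd_cmap, hc, map_zero])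

/-- the projection of the Godement sequence -/
noncomputable def gπ (F : AbSh X) : gd F ⟶ qt F := (gdSeq F).g

lemma η_gπ_cmap (F : AbSh X) (n : ℕ) (c : Cochain F.obj U n) :
    cmap (gπ F).hom U n (cmap (η F).hom U n c) = 0 :=
  cmap_g_f (S := gdSeq F) U n c

lemma cd_quot_eq_zero (F : AbSh X) {n : ℕ} {c : Cochain F.obj U (n + 1)}
    {b : Cochain (gd F).obj U n} (hb : cd (gd F).obj U n b = cmap (η F).hom U (n + 1) c) :
    cd (qt F).obj U n (cmap (gπ F).hom U n b) = 0 := by
  rw [cd_cmap, hb, η_gπ_cmap]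

/-- the extension class of the Godement sequence -/
noncomputable def gdExt (F : AbSh X) : Ext (qt F) F 1 := (gdSeq_shortExact F).extClass

lemma gπ_gdExt (F : AbSh X) : (Ext.mk₀ (gπ F)).comp (gdExt F) (zero_add 1) = 0 :=
  (gdSeq_shortExact F).comp_extClass

/-- the connecting map of the Godement sequence -/
noncomputable def gdδ (F : AbSh X) {n : ℕ} : Sheaf.H (qt F) n →+ Sheaf.H F (n + 1) :=
  (gdExt F).postcomp _ rfl

lemma gdδ_add (F : AbSh X) {n : ℕ} (x y : Sheaf.H (qt F) n) :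
    gdδ F (x + y) = gdδ F x + gdδ F y := map_add _ _ _

lemma gdδ_zero (F : AbSh X) {n : ℕ} : gdδ F (0 : Sheaf.H (qt F) n) = 0 := map_zero _

lemma gdδ_map_g (F : AbSh X) {n : ℕ} (x : Sheaf.H (gd F) n) :
    gdδ F (Sheaf.H.map (gπ F) n x) = 0 :=
  (Ext.comp_assoc_of_second_deg_zero x (Ext.mk₀ (gπ F)) (gdExt F) _).trans
    ((congrArg (fun e ↦ Ext.comp x e rfl) (gπ_gdExt F)).trans (Ext.comp_zero ..))

lemma exists_gdδ_eq (F : AbSh X) {n : ℕ} (h : Sheaf.H F (n + 1)) :
    ∃ y : Sheaf.H (qt F) n, gdδ F y = h := by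
  have hG : Subsingleton (Sheaf.H (gd F) (n + 1)) := (uAcyclic_gd F).subsingleton_H n
  exact Ext.covariant_sequence_exact₁ _ (gdSeq_shortExact F) h
    (Subsingleton.elim (α := Sheaf.H (gd F) (n + 1)) _ 0) (show n + 1 = n + 1 from rfl)

lemma exists_map_eq_of_gdδ_eq_zero (F : AbSh X) {n : ℕ} {y : Sheaf.H (qt F) n}
    (h : gdδ F y = 0) : ∃ w : Sheaf.H (gd F) n, Sheaf.H.map (gπ F) n w = y :=
  Ext.covariant_sequence_exact₃ _ (gdSeq_shortExact F) y rfl h

/-- functoriality of the quotient of the Godement embedding -/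
noncomputable def gqMap {F F' : AbSh X} (φ : F ⟶ F') : qt F ⟶ qt F' :=
  cokernel.map (η F) (η F') φ (gdMap φ) (η_naturality φ).symm

lemma gπ_naturality {F F' : AbSh X} (φ : F ⟶ F') : gdMap φ ≫ gπ F' = gπ F ≫ gqMap φ :=
  (cokernel.π_desc _ _ _).symm

lemma gdExt_naturality {F F' : AbSh X} (φ : F ⟶ F') :
    (gdExt F).comp (Ext.mk₀ φ) (add_zero 1) =
      (Ext.mk₀ (gqMap φ)).comp (gdExt F') (zero_add 1) :=
  ShortComplex.ShortExact.extClass_naturality (gdSeq_shortExact F) (gdSeq_shortExact F')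
    { τ₁ := φ, τ₂ := gdMap φ, τ₃ := gqMap φ,
      comm₁₂ := η_naturality φ, comm₂₃ := gπ_naturality φ }

lemma gdδ_naturality {F F' : AbSh X} (φ : F ⟶ F') {n : ℕ} (x : Sheaf.H (qt F) n) :
    Sheaf.H.map φ (n + 1) (gdδ F x) = gdδ F' (Sheaf.H.map (gqMap φ) n x) :=
  (Ext.comp_assoc_of_third_deg_zero x (gdExt F) (Ext.mk₀ φ) rfl).trans
    ((congrArg (fun e ↦ Ext.comp x e rfl) (gdExt_naturality φ)).trans
      (Ext.comp_assoc_of_second_deg_zero x (Ext.mk₀ (gqMap φ)) (gdExt F') rfl).symm)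

/-- the natural map from Čech cocycles to sheaf cohomology -/
noncomputable def toH (hU : ⨆ i, U i = ⊤) :
    (n : ℕ) → (F : AbSh X) → (c : Cochain F.obj U n) → cd F.obj U n c = 0 → Sheaf.H F n
  | 0, F, _, hc => (Sheaf.H.equiv₀ F isTerminalTop).symm (exists_aug_eq F hU hc).choose
  | n + 1, F, _, hc => gdδ F
      (toH hU n (qt F) (cmap (gπ F).hom U n (exists_bound F hc).choose)
        (cd_quot_eq_zero F (exists_bound F hc).choose_spec))

variable (hU : ⨆ i, U i = ⊤)

lemma toH_congr {n : ℕ} {F : AbSh X} {c c' : Cochain F.obj U n} (h : c = c')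
    (hc : cd F.obj U n c = 0) (hc' : cd F.obj U n c' = 0) :
    toH hU n F c hc = toH hU n F c' hc' := by
  subst h
  rfl

lemma toH_zero_eq (F : AbSh X) {c : Cochain F.obj U 0} (hc : cd F.obj U 0 c = 0)
    {s : F.obj.obj (op ⊤)} (hs : aug F.obj U s = c) :
    toH hU 0 F c hc = (Sheaf.H.equiv₀ F isTerminalTop).symm s :=
  by
  rw [toH, aug_injective F hU ((exists_aug_eq F hU hc).choose_spec.trans hs.symm)]

/-- additivity of `toH` in degree `n` (internal) -/
private def SpecAdd (n : ℕ) : Prop :=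
  ∀ (F : AbSh X) (c c' : Cochain F.obj U n) (hc : cd F.obj U n c = 0)
    (hc' : cd F.obj U n c' = 0), toH hU n F (c + c') (by rw [map_add, hc, hc', add_zero]) =
      toH hU n F c hc + toH hU n F c' hc'

/-- naturality of `toH` in degree `n` (internal) -/
private def SpecNat (n : ℕ) : Prop :=
  ∀ (F F' : AbSh X) (φ : F ⟶ F') (c : Cochain F.obj U n) (hc : cd F.obj U n c = 0),
    toH hU n F' (cmap φ.hom U n c) (by rw [cd_cmap, hc, map_zero]) =
      Sheaf.H.map φ n (toH hU n F c hc)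

private lemma succ_eq_aux {n : ℕ} (h : SpecAdd hU n ∧ SpecNat hU n) (F : AbSh X) {c : Cochain F.obj U (n + 1)}
    (hc : cd F.obj U (n + 1) c = 0) {b : Cochain (gd F).obj U n}
    (hb : cd (gd F).obj U n b = cmap (η F).hom U (n + 1) c) :
    toH hU (n + 1) F c hc =
      gdδ F (toH hU n (qt F) (cmap (gπ F).hom U n b) (cd_quot_eq_zero F hb)) := by
  rw [toH]
  have hd : cd (gd F).obj U n ((exists_bound F hc).choose - b) = 0 := by
    rw [map_sub, (exists_bound F hc).choose_spec, hb, sub_self]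
  have e : cmap (gπ F).hom U n (exists_bound F hc).choose =
      cmap (gπ F).hom U n b +
        cmap (gπ F).hom U n ((exists_bound F hc).choose - b) := by
    rw [← map_add, add_sub_cancel]
  have hz : cd (qt F).obj U n
      (cmap (gπ F).hom U n ((exists_bound F hc).choose - b)) = 0 :=
    (cd_cmap (gπ F).hom U n _).trans ((congrArg _ hd).trans (map_zero _))
  rw [toH_congr hU e _ (by rw [map_add, cd_quot_eq_zero F hb, hz, add_zero]),
    h.1 _ _ _ (cd_quot_eq_zero F hb) hz, gdδ_add]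
  refine (congrArg (_ + ·) ?_).trans (add_zero _)
  refine (congrArg (gdδ F) (h.2 (gd F) (qt F) (gπ F) _ hd)).trans ?_
  exact gdδ_map_g F _

private lemma spec : ∀ n, SpecAdd hU n ∧ SpecNat hU n := by
  intro n
  induction n with
  | zero =>
    refine ⟨fun F c c' hc hc' ↦ ?_, fun F F' φ c hc ↦ ?_⟩
    · obtain ⟨s, hs⟩ := exists_aug_eq F hU hc
      obtain ⟨s', hs'⟩ := exists_aug_eq F hU hc'
      rw [toH_zero_eq hU F hc hs, toH_zero_eq hU F hc' hs',
        toH_zero_eq hU F _ (s := s + s') (by rw [map_add, hs, hs'])]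
      exact map_add _ _ _
    · obtain ⟨s, hs⟩ := exists_aug_eq F hU hc
      rw [toH_zero_eq hU F hc hs, Sheaf.H.equiv₀_symm_naturality]
      exact toH_zero_eq hU F' _ (by rw [← cmap_aug, hs])
  | succ n ih =>
    refine ⟨fun F c c' hc hc' ↦ ?_, fun F F' φ c hc ↦ ?_⟩
    · obtain ⟨b, hb⟩ := exists_bound F hc
      obtain ⟨b', hb'⟩ := exists_bound F hc'
      rw [succ_eq_aux hU ih F hc hb, succ_eq_aux hU ih F hc' hb',
        succ_eq_aux hU ih F _ (b := b + b') (by rw [map_add, hb, hb', ← map_add]), ← gdδ_add,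
        ← ih.1 _ _ _ (cd_quot_eq_zero F hb) (cd_quot_eq_zero F hb')]
      exact congrArg _ (toH_congr hU (map_add _ _ _) _ _)
    · obtain ⟨b, hb⟩ := exists_bound F hc
      have hb' : cd (gd F').obj U n (cmap (gdMap φ).hom U n b) =
          cmap (η F').hom U (n + 1) (cmap φ.hom U (n + 1) c) := by
        rw [cd_cmap, hb, ← cmap_comp, ← cmap_comp, ← ObjectProperty.FullSubcategory.comp_hom,
          ← ObjectProperty.FullSubcategory.comp_hom, η_naturality]
      rw [succ_eq_aux hU ih F hc hb, succ_eq_aux hU ih F' _ hb', gdδ_naturality,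
        ← ih.2 _ _ (gqMap φ) _ (cd_quot_eq_zero F hb)]
      refine congrArg _ (toH_congr hU ?_ _ _)
      rw [← cmap_comp, ← cmap_comp, ← ObjectProperty.FullSubcategory.comp_hom,
        ← ObjectProperty.FullSubcategory.comp_hom, gπ_naturality]

lemma toH_succ_eq {n : ℕ} (F : AbSh X) {c : Cochain F.obj U (n + 1)}
    (hc : cd F.obj U (n + 1) c = 0) {b : Cochain (gd F).obj U n}
    (hb : cd (gd F).obj U n b = cmap (η F).hom U (n + 1) c) :
    toH hU (n + 1) F c hc =
      gdδ F (toH hU n (qt F) (cmap (gπ F).hom U n b) (cd_quot_eq_zero F hb)) :=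
  succ_eq_aux hU (spec hU n) F hc hb

lemma toH_add {n : ℕ} (F : AbSh X) (c c' : Cochain F.obj U n) (hc : cd F.obj U n c = 0)
    (hc' : cd F.obj U n c' = 0) : toH hU n F (c + c') (by rw [map_add, hc, hc', add_zero]) =
      toH hU n F c hc + toH hU n F c' hc' :=
  (spec hU n).1 F c c' hc hc'

/-- naturality of `toH` -/
lemma toH_map {n : ℕ} {F F' : AbSh X} (φ : F ⟶ F') (c : Cochain F.obj U n)
    (hc : cd F.obj U n c = 0) :
    toH hU n F' (cmap φ.hom U n c) (by rw [cd_cmap, hc, map_zero]) =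
      Sheaf.H.map φ n (toH hU n F c hc) :=
  (spec hU n).2 F F' φ c hc

/-- `toH` as an additive map on cocycles -/
noncomputable def toHHom (n : ℕ) (F : AbSh X) : (cd F.obj U n).ker →+ Sheaf.H F n :=
  AddMonoidHom.mk' (fun c ↦ toH hU n F c.1 c.2) fun c c' ↦ toH_add hU F c.1 c'.1 c.2 c'.2

lemma toH_cd {n : ℕ} (F : AbSh X) (t : Cochain F.obj U n) :
    toH hU (n + 1) F (cd F.obj U n t) (cd_cd _ _ _ _) = 0 := by
  rw [toH_succ_eq hU F _ (b := cmap (η F).hom U n t) (cd_cmap _ _ _ _)]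
  have h0 : cmap (gπ F).hom U n (cmap (η F).hom U n t) = 0 := cmap_g_f (S := gdSeq F) U n t
  have hz : toH hU n (qt F) 0 (map_zero _) = 0 := map_zero (toHHom hU n (qt F))
  rw [toH_congr hU h0 _ (map_zero _), hz]
  exact gdδ_zero F

variable {C : CovSys X}

/-- for Čech acyclic sheaves every class comes from a cocycle -/
theorem exists_toH_eq (hmem : ∀ {n : ℕ} (x : Fin (n + 1) → ι), C.mem (inter U x))
    {n : ℕ} {F : AbSh X} (hF : C.Good F) (h : Sheaf.H F n) :
    ∃ c hc, toH hU n F c hc = h := by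
  induction n generalizing F with
  | zero =>
    refine ⟨aug F.obj U (Sheaf.H.equiv₀ F isTerminalTop h), cd_aug _ _, ?_⟩
    rw [toH_zero_eq hU F _ rfl]
    exact AddEquiv.symm_apply_apply _ _
  | succ n ih =>
    obtain ⟨y, hy⟩ := exists_gdδ_eq F h
    obtain ⟨z, hz, rfl⟩ := ih (hF.quot (gdSeq_shortExact F) ((uAcyclic_gd F).good C)) y
    choose b hb using fun x ↦ hF.sec_surjective (gdSeq_shortExact F) (hmem x) (z x)
    have hbz : cmap (gπ F).hom U n b = z := funext hb
    obtain ⟨c, hc, hfc⟩ := cd_lift_mem (gdSeq_shortExact F) (t := b)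
      ((congrArg (cd (qt F).obj U n) hbz).trans hz)
    refine ⟨c, hc, ?_⟩
    rw [toH_succ_eq hU F hc (b := b) hfc.symm, toH_congr hU hbz _ hz]
    exact hy

/-- for Čech acyclic sheaves only coboundaries die -/
theorem exists_cd_eq_of_toH_eq_zero
    (hmem : ∀ {n : ℕ} (x : Fin (n + 1) → ι), C.mem (inter U x))
    {n : ℕ} {F : AbSh X} (hF : C.Good F) {c : Cochain F.obj U (n + 1)}
    (hc : cd F.obj U (n + 1) c = 0) (h : toH hU (n + 1) F c hc = 0) :
    ∃ t, cd F.obj U n t = c := by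
  induction n generalizing F with
  | zero =>
    obtain ⟨b, hb⟩ := exists_bound F hc
    rw [toH_succ_eq hU F hc hb] at h
    obtain ⟨w, hw⟩ := exists_map_eq_of_gdδ_eq_zero F h
    obtain ⟨s, hs⟩ := exists_aug_eq (qt F) hU (cd_quot_eq_zero F hb)
    rw [toH_zero_eq hU (qt F) _ hs] at hw
    have hw' : (gπ F).hom.app (op ⊤) (Sheaf.H.equiv₀ (gd F) isTerminalTop w) = s := by
      rw [Sheaf.H.equiv₀_naturality]
      exact (congrArg _ hw).trans (AddEquiv.apply_symm_apply _ _)
    have hd : cmap (gπ F).hom U 0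
        (b - aug (gd F).obj U (Sheaf.H.equiv₀ (gd F) isTerminalTop w)) = 0 := by
      refine (map_sub _ _ _).trans (sub_eq_zero.2 ?_)
      refine hs.symm.trans ((congrArg (aug (qt F).obj U) hw'.symm).trans ?_)
      exact (cmap_aug (gπ F).hom _).symm
    obtain ⟨a, ha⟩ := exists_cmap_f (gdSeq_shortExact F) hd
    refine ⟨a, cmap_f_injective (gdSeq_shortExact F) U 1 ?_⟩
    refine (cd_cmap (η F).hom U 0 a).symm.trans ?_
    refine (congrArg (cd (gd F).obj U 0) ha).trans ?_
    exact (map_sub _ _ _).trans ((congrArg (_ - ·) (cd_aug _ _)).trans ((sub_zero _).trans hb))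
  | succ n ih =>
    obtain ⟨b, hb⟩ := exists_bound F hc
    rw [toH_succ_eq hU F hc hb] at h
    obtain ⟨w, hw⟩ := exists_map_eq_of_gdδ_eq_zero F h
    have hG : Subsingleton (Sheaf.H (gd F) (n + 1)) := (uAcyclic_gd F).subsingleton_H n
    have h0 : toH hU (n + 1) (qt F) _ (cd_quot_eq_zero F hb) = 0 := by
      rw [← hw, Subsingleton.elim (α := Sheaf.H (gd F) (n + 1)) w 0]
      exact map_zero _
    obtain ⟨e, he⟩ := ih (hF.quot (gdSeq_shortExact F) ((uAcyclic_gd F).good C)) _ h0
    choose e' he' using fun x ↦ hF.sec_surjective (gdSeq_shortExact F) (hmem x) (e x)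
    have hee : cmap (gπ F).hom U n e' = e := funext he'
    have hd : cmap (gπ F).hom U (n + 1) (b - cd (gd F).obj U n e') = 0 := by
      refine (map_sub _ _ _).trans (sub_eq_zero.2 ?_)
      refine he.symm.trans ?_
      exact (congrArg (cd (qt F).obj U n) hee.symm).trans (cd_cmap (gπ F).hom U n e')
    obtain ⟨a, ha⟩ := exists_cmap_f (gdSeq_shortExact F) hd
    refine ⟨a, cmap_f_injective (gdSeq_shortExact F) U (n + 2) ?_⟩
    refine (cd_cmap (η F).hom U (n + 1) a).symm.trans ?_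
    refine (congrArg (cd (gd F).obj U (n + 1)) ha).trans ?_
    exact (map_sub _ _ _).trans ((congrArg (_ - ·) (cd_cd _ _ _ _)).trans ((sub_zero _).trans hb))

end Groth.Agent.CohAff
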