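import Groth.Agent.CohAff.RcIso

/-!
# Higher direct images and composition with affine morphisms

`R^q g_* (f_* M) ≅ R^q (g ∘ f)_* M` for affine `f`, and `R^q (g ∘ f)_* M ≅ g_* R^q f_* M` for affine `g`
and `f` qcqs, `M` quasi-coherent.
-/

universe u

open CategoryTheory Limits Opposite TopologicalSpace AlgebraicGeometry

namespace Groth.Agent.CohAff

variable {X Y Z : Scheme.{u}} (f : X ⟶ Y) (g : Y ⟶ Z)

/-- composite of direct images, on morphisms of the resolution -/
noncomputable def pushPushIso (M : X.Modules) :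
    (Scheme.Modules.pushforward g).obj ((Scheme.Modules.pushforward f).obj M) ≅
      (Scheme.Modules.pushforward (f ≫ g)).obj M :=
  (Scheme.Modules.pushforwardComp f g).app M

/-- `R^(n+1) g_*` of the pushed resolution -/
noncomputable def rcPushAffIso [IsAffineHom f] (R : FRes X) [(R.Z 0).IsQuasicoherent] (n : ℕ) :
    (R.pushAff f).Rc g n ≅ R.Rc (f ≫ g) n :=
  cokernel.mapIso _ _ (pushPushIso f g (R.J n)) (pushPushIso f g (R.Z (n + 1)))
    ((Scheme.Modules.pushforwardComp f g).hom.naturality (R.p n))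

variable [HasInjectiveResolutions X.Modules]

/-- higher direct images of an affine direct image -/
noncomputable def rpushAffineFirst [IsAffineHom f] [HasInjectiveResolutions Y.Modules]
    (M : X.Modules) [M.IsQuasicoherent] : ∀ q : ℕ,
    (Coh.Rpush g q).obj ((Scheme.Modules.pushforward f).obj M) ≅ (Coh.Rpush (f ≫ g) q).obj M
  | 0 => (Scheme.Modules.pushforward g).rightDerivedZeroIsoSelf.app _ ≪≫ pushPushIso f g M ≪≫
      ((Scheme.Modules.pushforward (f ≫ g)).rightDerivedZeroIsoSelf.app _).symm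
  | n + 1 => ((FRes.ofMod M).pushAff f).rpushIsoRc g n ≪≫ rcPushAffIso f g (FRes.ofMod M) n ≪≫
      ((FRes.ofMod M).rpushIsoRc (f ≫ g) n).symm

/-- comparison with the direct image of the model -/
noncomputable def rcToPush (R : FRes X) (n : ℕ) :
    R.Rc (f ≫ g) n ⟶ (Scheme.Modules.pushforward g).obj (R.Rc f n) :=
  cokernel.desc _ ((pushPushIso f g _).inv ≫
      (Scheme.Modules.pushforward g).map (cokernel.π (R.pP f n))) (by
    rw [← Category.assoc, ← cancel_epi (pushPushIso f g (R.J n)).hom, comp_zero]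
    have h := (Scheme.Modules.pushforwardComp f g).hom.naturality (R.p n)
    change (pushPushIso f g (R.J n)).hom ≫
      ((Scheme.Modules.pushforward (f ≫ g)).map (R.p n) ≫ (pushPushIso f g _).inv) ≫ _ = 0
    rw [← Category.assoc, ← Category.assoc, show (pushPushIso f g (R.J n)).hom ≫
      (Scheme.Modules.pushforward (f ≫ g)).map (R.p n) =
        (Scheme.Modules.pushforward f ⋙ Scheme.Modules.pushforward g).map (R.p n) ≫
          (pushPushIso f g _).hom from h.symm, Category.assoc, Category.assoc,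
      Iso.hom_inv_id_assoc, Functor.comp_map, ← Functor.map_comp, cokernel.condition,
      Functor.map_zero])

lemma rcToPush_π' (R : FRes X) (n : ℕ) (V : Z.Opens) (z : Γ(R.Z (n + 1), (f ≫ g) ⁻¹ᵁ V)) :
    (rcToPush f g R n).app V (R.π' (f ≫ g) n V z) = R.π' f n (g ⁻¹ᵁ V) z :=
  congr($(congrArg (fun a ↦ Scheme.Modules.Hom.app a V)
    (cokernel.π_desc (R.pP (f ≫ g) n) _ _ : cokernel.π _ ≫ rcToPush f g R n = _)) z)

lemma isIso_rcToPush [IsAffineHom g] [QuasiCompact f] [QuasiSeparated f] (R : FRes X)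
    [(R.Z 0).IsQuasicoherent] (n : ℕ) : IsIso (rcToPush f g R n) := by
  refine isIso_of_affine_bijective _ fun V hV ↦ ⟨(injective_iff_map_eq_zero _).2 fun x hx ↦ ?_, ?_⟩
  · obtain ⟨z, rfl⟩ := R.π'_surjective (f ≫ g) hV n x
    rw [rcToPush_π' f g] at hx
    exact R.π'_eq_zero_of_ex (f ≫ g) n (R.ex_of_π'_eq_zero f (hV.preimage g) n z hx)
  · intro y
    obtain ⟨z, rfl⟩ := R.π'_surjective f (hV.preimage g) n y
    exact ⟨R.π' (f ≫ g) n V z, rcToPush_π' f g R n V z⟩

/-- higher direct images followed by an affine direct image -/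
noncomputable def rpushAffineSecond [IsAffineHom g] [QuasiCompact f] [QuasiSeparated f]
    (M : X.Modules) [M.IsQuasicoherent] : ∀ q : ℕ,
    (Coh.Rpush (f ≫ g) q).obj M ≅ (Scheme.Modules.pushforward g).obj ((Coh.Rpush f q).obj M)
  | 0 => (Scheme.Modules.pushforward (f ≫ g)).rightDerivedZeroIsoSelf.app _ ≪≫
      (pushPushIso f g M).symm ≪≫ (Scheme.Modules.pushforward g).mapIso
        ((Scheme.Modules.pushforward f).rightDerivedZeroIsoSelf.app _).symm
  | n + 1 =>
    have := isIso_rcToPush f g (FRes.ofMod M) n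
    (FRes.ofMod M).rpushIsoRc (f ≫ g) n ≪≫ asIso (rcToPush f g (FRes.ofMod M) n) ≪≫
      (Scheme.Modules.pushforward g).mapIso ((FRes.ofMod M).rpushIsoRc f n).symm

end Groth.Agent.CohAff
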