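import Groth.Agent.CohAff.Classes
import Groth.Agent.CohAff.ResOps
import Mathlib.Algebra.Module.LocalizedModule.Basic

/-!
# Cohomology on the locus where a global function is invertible

For `X` qcqs, `f` a global function and `R` a resolution of a quasi-coherent module, the classes on
`W = X_f` are the localisation at `f` of the global ones (`cohQEquiv`).
-/

universe u

open CategoryTheory Limits Opposite TopologicalSpace AlgebraicGeometry

namespace Groth.Agent.CohAff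

local notation "rs" => Groth.Agent.QCoh.res
local notation "rr" => Groth.Agent.QCoh.rres

variable {X : Scheme.{u}}

namespace FRes

variable (R : FRes X) (n : ℕ)

/-- sections of cocycles, as a module over global functions -/
def secM (W : X.Opens) : Type u := Γ(R.Z n, W)

noncomputable instance secMAddCommGroup (W : X.Opens) : AddCommGroup (R.secM n W) :=
  inferInstanceAs (AddCommGroup Γ(R.Z n, W))

noncomputable instance secMModule (W : X.Opens) : Module Γ(X, ⊤) (R.secM n W) :=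
  Module.compHom Γ(R.Z n, W) (rr (le_top : W ≤ ⊤)).hom

/-- coboundaries -/
def exSub (W : X.Opens) : Submodule Γ(X, ⊤) (R.secM n W) where
  carrier := {z | R.Ex n W z}
  zero_mem' := Ex.zero n W
  add_mem' := Ex.add
  smul_mem' _ _ h := h.smul _

/-- cohomology classes on `W` -/
abbrev cohQ (W : X.Opens) : Type u := R.secM n W ⧸ R.exSub n W

/-- the class of a cocycle -/
noncomputable def mkQ (W : X.Opens) : Γ(R.Z n, W) →+ R.cohQ n W :=
  AddMonoidHom.mk' (fun z ↦ Submodule.Quotient.mk (p := R.exSub n W) (show R.secM n W from z))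
    fun _ _ ↦ rfl

lemma smul_mkQ {W : X.Opens} (r : Γ(X, ⊤)) (z : Γ(R.Z n, W)) :
    r • R.mkQ n W z = R.mkQ n W (rr (le_top : W ≤ ⊤) r • z) := rfl

lemma mkQ_eq_zero {W : X.Opens} (z : Γ(R.Z n, W)) : R.mkQ n W z = 0 ↔ R.Ex n W z :=
  Submodule.Quotient.mk_eq_zero _

lemma mkQ_surjective (W : X.Opens) : Function.Surjective (R.mkQ n W) :=
  fun x ↦ Quotient.inductionOn' x fun z ↦ ⟨z, rfl⟩

lemma mkQ_eq {W : X.Opens} (a b : Γ(R.Z n, W)) : R.mkQ n W a = R.mkQ n W b ↔ R.Ex n W (a - b) := by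
  rw [← sub_eq_zero, ← map_sub, mkQ_eq_zero]

/-- restriction of classes -/
noncomputable def cohRes {V W : X.Opens} (h : W ≤ V) : R.cohQ n V →ₗ[Γ(X, ⊤)] R.cohQ n W :=
  Submodule.mapQ _ _
    { toFun := fun z ↦ rs (R.Z n) h z
      map_add' := fun a b ↦ map_add _ a b
      map_smul' := fun r z ↦ (QCoh.res_smul (R.Z n) h _ z).trans
        (congrArg (· • rs (R.Z n) h z) (QCoh.rres_rres _ _ r)) }
    fun _ hz ↦ Ex.res h hz

theorem isLocalizedModule_cohRes [hq : (R.Z 0).IsQuasicoherent] [CompactSpace X]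
    [QuasiSeparatedSpace X] (f : Γ(X, ⊤)) {W : X.Opens} (hW : W = ⊤ ⊓ X.basicOpen f) :
    IsLocalizedModule (Submonoid.powers f) (R.cohRes n (le_top : W ≤ ⊤)) := by
  subst hW
  have hL := R.loc_of_isCompact (X₀ := ⊤) isQuasiSeparated_univ f (W := ⊤) le_rfl
    CompactSpace.isCompact_univ n
  have hu : IsUnit (rr (le_top : ⊤ ⊓ X.basicOpen f ≤ ⊤) f) := by
    have h : IsUnit (rr (X.basicOpen_le f) f) := X.toRingedSpace.isUnit_res_basicOpen f
    have h2 := h.map (rr (inf_le_right : ⊤ ⊓ X.basicOpen f ≤ X.basicOpen f)).hom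
    rwa [show ((rr (inf_le_right : ⊤ ⊓ X.basicOpen f ≤ X.basicOpen f)).hom
        (rr (X.basicOpen_le f) f)) = rr (le_top : ⊤ ⊓ X.basicOpen f ≤ ⊤) f from
      QCoh.rres_rres _ _ f] at h2
  constructor
  · rintro ⟨_, k, rfl⟩
    obtain ⟨v, hv⟩ := hu.pow k
    have hv' : rr (le_top : ⊤ ⊓ X.basicOpen f ≤ ⊤) (f ^ k) = v := by rw [map_pow, hv]
    rw [Module.End.isUnit_iff]
    constructor
    · intro a b hab
      obtain ⟨a, rfl⟩ := R.mkQ_surjective n _ a
      obtain ⟨b, rfl⟩ := R.mkQ_surjective n _ b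
      change f ^ k • R.mkQ n _ a = f ^ k • R.mkQ n _ b at hab
      rw [smul_mkQ, smul_mkQ, mkQ_eq, hv', ← smul_sub] at hab
      rw [mkQ_eq]
      have := Ex.smul ((v⁻¹ : (Γ(X, ⊤ ⊓ X.basicOpen f))ˣ) : Γ(X, ⊤ ⊓ X.basicOpen f)) hab
      rwa [smul_smul, Units.inv_mul, one_smul] at this
    · intro b
      obtain ⟨b, rfl⟩ := R.mkQ_surjective n _ b
      refine ⟨R.mkQ n _ (((v⁻¹ : (Γ(X, ⊤ ⊓ X.basicOpen f))ˣ) : Γ(X, ⊤ ⊓ X.basicOpen f)) • b), ?_⟩
      change f ^ k • R.mkQ n _ _ = _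
      rw [smul_mkQ, hv', smul_smul, Units.mul_inv, one_smul]
  · intro y
    obtain ⟨z, rfl⟩ := R.mkQ_surjective n _ y
    obtain ⟨N, w, hw⟩ := hL.surj z
    refine ⟨⟨R.mkQ n _ w, f ^ N, N, rfl⟩, ?_⟩
    symm
    change R.mkQ n _ (rs (R.Z n) _ w) = f ^ N • R.mkQ n _ z
    rw [smul_mkQ, mkQ_eq, map_pow]
    exact hw
  · intro a b h
    obtain ⟨a, rfl⟩ := R.mkQ_surjective n _ a
    obtain ⟨b, rfl⟩ := R.mkQ_surjective n _ b
    change R.mkQ n _ (rs (R.Z n) _ a) = R.mkQ n _ (rs (R.Z n) _ b) at h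
    rw [mkQ_eq, ← map_sub] at h
    obtain ⟨N, hN⟩ := hL.inj _ h
    refine ⟨⟨f ^ N, N, rfl⟩, ?_⟩
    change f ^ N • R.mkQ n _ a = f ^ N • R.mkQ n _ b
    rw [smul_mkQ, smul_mkQ, mkQ_eq, map_pow, ← smul_sub]
    exact hN

/-- classes of global cocycles -/
noncomputable def cohQTop : R.cohQ n ⊤ →+ Coh.HH X (R.Z 0) n :=
  QuotientAddGroup.lift (R.exSub n ⊤).toAddSubgroup (R.clsTop n)
    fun z hz ↦ (R.clsTop_eq_zero_iff n z).2 hz

lemma cohQTop_bijective : Function.Bijective (R.cohQTop n) := by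
  refine ⟨(injective_iff_map_eq_zero _).2 fun a ha ↦ ?_, fun y ↦ ?_⟩
  · obtain ⟨z, rfl⟩ := R.mkQ_surjective n _ a
    exact (R.mkQ_eq_zero n z).2 ((R.clsTop_eq_zero_iff n z).1 ha)
  · obtain ⟨z, hz⟩ := R.clsTop_surjective n y
    exact ⟨R.mkQ n ⊤ z, hz⟩

/-- global classes, linearly -/
noncomputable def cohQTopEquiv : letI : Module (Coh.Γtop X) (R.cohQ n ⊤) :=
      inferInstanceAs (Module Γ(X, ⊤) (R.cohQ n ⊤))
    R.cohQ n ⊤ ≃ₗ[Coh.Γtop X] Coh.HH X (R.Z 0) n :=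
  letI : Module (Coh.Γtop X) (R.cohQ n ⊤) := inferInstanceAs (Module Γ(X, ⊤) (R.cohQ n ⊤))
  { AddEquiv.ofBijective _ (R.cohQTop_bijective n) with
    map_smul' := fun r a ↦ by
      obtain ⟨z, rfl⟩ := R.mkQ_surjective n ⊤ a
      change R.clsTop n (rr le_rfl (show Γ(X, ⊤) from r) • z) = r • R.clsTop n z
      rw [QCoh.rres_self]
      exact R.clsTop_smul n r z }

/-- classes on an open subscheme -/
noncomputable def cohQOpen (W : X.Opens) :
    R.cohQ n (W.ι ''ᵁ ⊤) ≃+ Coh.HHon X (R.Z 0) W n :=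
  let R' := R.restrict W.ι
  addEquivOfKer (R.mkQ n (W.ι ''ᵁ ⊤)) (R'.clsTop n) (R.mkQ_surjective n _) (R'.clsTop_surjective n)
    fun z ↦ (R.mkQ_eq_zero n z).trans (by
      rcases n with _ | m
      · exact (R'.clsTop_eq_zero_iff 0 z).symm
      · exact (R'.clsTop_eq_zero_iff (m + 1) z).symm)

end FRes

end Groth.Agent.CohAff
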