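import Mathlib.CategoryTheory.Sites.SheafCohomology.Cech
import Mathlib.Algebra.Homology.ShortComplex.HomologicalComplex
import Mathlib.Algebra.Category.Grp.Abelian
import Mathlib.Algebra.Category.Grp.Limits
import Mathlib.Algebra.Homology.ShortComplex.Ab
import Mathlib.Topology.Sheaves.Stalks
import Mathlib.Topology.Sheaves.SheafOfFunctions

/-!
# Concrete Čech cochains of a presheaf of abelian groups on a space
-/

universe u

open CategoryTheory Limits Opposite TopologicalSpace Simplicial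

namespace Groth.Agent.CohAff

variable {X : TopCat.{u}} {ι : Type u}

/-- restriction map of a presheaf of abelian groups -/
noncomputable def res (P : TopCat.Presheaf AddCommGrpCat.{u} X) {U V : Opens X} (h : V ≤ U) :
    P.obj (op U) →+ P.obj (op V) :=
  (P.map (homOfLE h).op).hom

lemma map_eq_res (P : TopCat.Presheaf AddCommGrpCat.{u} X) {U V : Opens X} (i : op U ⟶ op V) (s) :
    (P.map i).hom s = res P (leOfHom i.unop) s := rfl

@[simp]
lemma res_res (P : TopCat.Presheaf AddCommGrpCat.{u} X) {U V W : Opens X} (h : V ≤ U) (h' : W ≤ V)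
    (s : P.obj (op U)) : res P h' (res P h s) = res P (h'.trans h) s := by
  change ((P.map (homOfLE h).op) ≫ (P.map (homOfLE h').op)).hom s = _
  rw [← Functor.map_comp]
  rfl

@[simp]
lemma res_self (P : TopCat.Presheaf AddCommGrpCat.{u} X) {U : Opens X} (h : U ≤ U)
    (s : P.obj (op U)) : res P h s = s := by
  change (P.map (homOfLE h).op).hom s = _
  have : (homOfLE h).op = 𝟙 (op U) := rfl
  rw [this, P.map_id]
  rfl

lemma res_app {P Q : TopCat.Presheaf AddCommGrpCat.{u} X} (φ : P ⟶ Q) {U V : Opens X} (h : V ≤ U)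
    (s : P.obj (op U)) : res Q h ((φ.app (op U)).hom s) = (φ.app (op V)).hom (res P h s) := by
  change (φ.app (op U) ≫ Q.map _).hom s = (P.map _ ≫ φ.app (op V)).hom s
  rw [φ.naturality]

/-- intersection of a tuple of members of a family of opens -/
noncomputable def inter (U : ι → Opens X) {n : ℕ} (x : Fin n → ι) : Opens X := ⨅ a, U (x a)

lemma mem_inter {U : ι → Opens X} {n : ℕ} {x : Fin n → ι} {p : X} :
    p ∈ inter U x ↔ ∀ a, p ∈ U (x a) := by
  rw [← SetLike.mem_coe, inter, Opens.coe_iInf]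
  simp

lemma inter_le (U : ι → Opens X) {n : ℕ} (x : Fin n → ι) (a : Fin n) : inter U x ≤ U (x a) :=
  iInf_le _ a

lemma le_inter {U : ι → Opens X} {n : ℕ} {x : Fin n → ι} {W : Opens X} (h : ∀ a, W ≤ U (x a)) :
    W ≤ inter U x := le_iInf h

lemma inter_comp_le (U : ι → Opens X) {m n : ℕ} (x : Fin n → ι) (σ : Fin m → Fin n) :
    inter U x ≤ inter U (x ∘ σ) := le_inter fun a ↦ inter_le U x (σ a)

/-- Čech `n`-cochains -/
abbrev Cochain (P : TopCat.Presheaf AddCommGrpCat.{u} X) (U : ι → Opens X) (n : ℕ) : Type u :=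
  ∀ x : Fin (n + 1) → ι, P.obj (op (inter U x))

/-- Čech differential -/
noncomputable def cd (P : TopCat.Presheaf AddCommGrpCat.{u} X) (U : ι → Opens X) (n : ℕ) :
    Cochain P U n →+ Cochain P U (n + 1) :=
  AddMonoidHom.mk' (fun s x ↦ ∑ j : Fin (n + 2), (-1 : ℤ) ^ (j : ℕ) •
      res P (inter_comp_le U x j.succAbove) (s (x ∘ j.succAbove)))
    (fun s t ↦ by
      funext x
      simp only [Pi.add_apply, map_add, smul_add, Finset.sum_add_distrib])

lemma cd_apply (P : TopCat.Presheaf AddCommGrpCat.{u} X) (U : ι → Opens X) (n : ℕ)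
    (s : Cochain P U n) (x : Fin (n + 2) → ι) :
    cd P U n s x = ∑ j : Fin (n + 2), (-1 : ℤ) ^ (j : ℕ) •
      res P (inter_comp_le U x j.succAbove) (s (x ∘ j.succAbove)) := rfl

/-- exactness of the Čech complex in degree `n + 1` -/
def CechExact (P : TopCat.Presheaf AddCommGrpCat.{u} X) (U : ι → Opens X) (n : ℕ) : Prop :=
  ∀ s : Cochain P U (n + 1), cd P U (n + 1) s = 0 → ∃ t : Cochain P U n, cd P U n t = s

/-- map on cochains -/
noncomputable def cmap {P Q : TopCat.Presheaf AddCommGrpCat.{u} X} (φ : P ⟶ Q) (U : ι → Opens X)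
    (n : ℕ) : Cochain P U n →+ Cochain Q U n :=
  AddMonoidHom.mk' (fun s x ↦ (φ.app (op (inter U x))).hom (s x))
    (fun s t ↦ by funext x; simp only [Pi.add_apply, map_add])

lemma cmap_apply {P Q : TopCat.Presheaf AddCommGrpCat.{u} X} (φ : P ⟶ Q) (U : ι → Opens X) (n : ℕ)
    (s : Cochain P U n) (x : Fin (n + 1) → ι) :
    cmap φ U n s x = (φ.app (op (inter U x))).hom (s x) := rfl

lemma cd_cmap {P Q : TopCat.Presheaf AddCommGrpCat.{u} X} (φ : P ⟶ Q) (U : ι → Opens X) (n : ℕ)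
    (s : Cochain P U n) : cd Q U n (cmap φ U n s) = cmap φ U (n + 1) (cd P U n s) := by
  funext x
  rw [cd_apply, cmap_apply, cd_apply, map_sum]
  refine Finset.sum_congr rfl fun j _ ↦ ?_
  rw [map_zsmul, cmap_apply, res_app]

lemma cmap_comp {P Q R : TopCat.Presheaf AddCommGrpCat.{u} X} (φ : P ⟶ Q) (ψ : Q ⟶ R)
    (U : ι → Opens X) (n : ℕ) (s : Cochain P U n) :
    cmap (φ ≫ ψ) U n s = cmap ψ U n (cmap φ U n s) := rfl

lemma CechExact.of_retract {P Q : TopCat.Presheaf AddCommGrpCat.{u} X} (i : P ⟶ Q) (r : Q ⟶ P)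
    (hir : i ≫ r = 𝟙 P) {U : ι → Opens X} {n : ℕ} (h : CechExact Q U n) : CechExact P U n := by
  intro s hs
  obtain ⟨t, ht⟩ := h (cmap i U (n + 1) s) (by rw [cd_cmap, hs, map_zero])
  refine ⟨cmap r U n t, ?_⟩
  rw [cd_cmap, ht, ← cmap_comp, hir]
  rfl

/-! ### Comparison with Mathlib's Čech complex -/

section Compare

variable (P : TopCat.Presheaf AddCommGrpCat.{u} X) (U : ι → Opens X)

lemma inter_le_piObj (n : ℕ) (x : Fin (n + 1) → ι) : inter U x ≤ ∏ᶜ (U ∘ x) :=
  leOfHom (Pi.lift fun a ↦ homOfLE (inter_le U x a))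

lemma piObj_le_inter (n : ℕ) (x : Fin (n + 1) → ι) : ∏ᶜ (U ∘ x) ≤ inter U x :=
  le_inter fun a ↦ leOfHom (Pi.π (U ∘ x) a)

/-- Mathlib's Čech complex -/
noncomputable abbrev mlCech : CochainComplex AddCommGrpCat.{u} ℕ :=
  (cechComplexFunctor (A := AddCommGrpCat.{u}) U).obj P

/-- component of the comparison map -/
noncomputable def cmpHom (n : ℕ) (x : Fin (n + 1) → ι) :
    (mlCech P U).X n ⟶ P.obj (op (inter U x)) :=
  Pi.π (fun x : Fin (n + 1) → ι ↦ P.obj (op (∏ᶜ (U ∘ x)))) x ≫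
    P.map (homOfLE (inter_le_piObj U n x)).op

/-- comparison map -/
noncomputable def cmp (n : ℕ) : (mlCech P U).X n →+ Cochain P U n :=
  AddMonoidHom.mk' (fun s x ↦ (cmpHom P U n x).hom s)
    (fun s t ↦ by funext x; simp only [map_add]; rfl)

lemma cmp_apply (n : ℕ) (s : (mlCech P U).X n) (x : Fin (n + 1) → ι) :
    cmp P U n s x = (cmpHom P U n x).hom s := rfl

/-- inverse of the comparison map -/
noncomputable def cmpInv (n : ℕ) : AddCommGrpCat.of (Cochain P U n) ⟶ (mlCech P U).X n :=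
  Pi.lift (f := fun x : Fin (n + 1) → ι ↦ P.obj (op (∏ᶜ (U ∘ x)))) fun x ↦
    AddCommGrpCat.ofHom
      ((res P (piObj_le_inter U n x)).comp
        (Pi.evalAddMonoidHom (fun x : Fin (n + 1) → ι ↦ (P.obj (op (inter U x)) : Type u)) x))

lemma cmp_bijective (n : ℕ) : Function.Bijective (cmp P U n) := by
  refine Function.bijective_iff_has_inverse.mpr ⟨(cmpInv P U n).hom, fun s ↦ ?_, fun s ↦ ?_⟩
  · have : AddCommGrpCat.ofHom (cmp P U n) ≫ cmpInv P U n = 𝟙 _ := by
      refine Pi.hom_ext _ _ fun x ↦ ?_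
      refine (Category.assoc _ _ _).trans ((congrArg (AddCommGrpCat.ofHom (cmp P U n) ≫ ·) (Pi.lift_π _ x)).trans ?_)
      ext t
      change res P _ ((P.map _).hom _) = _
      rw [map_eq_res, res_res, res_self]
      rfl
    exact congr($this s)
  · funext x
    have : cmpInv P U n ≫ Pi.π (fun x : Fin (n + 1) → ι ↦ P.obj (op (∏ᶜ (U ∘ x)))) x = _ :=
      Pi.lift_π _ x
    change (P.map _).hom ((cmpInv P U n ≫
      Pi.π (fun x : Fin (n + 1) → ι ↦ P.obj (op (∏ᶜ (U ∘ x)))) x).hom s) = _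
    rw [this]
    change (P.map _).hom (res P _ (s x)) = _
    rw [map_eq_res, res_res, res_self]

lemma mlCech_d_cmpHom (n : ℕ) (x : Fin (n + 2) → ι) :
    (mlCech P U).d n (n + 1) ≫ cmpHom P U (n + 1) x =
      ∑ j : Fin (n + 2), (-1 : ℤ) ^ (j : ℕ) •
        (cmpHom P U n (x ∘ j.succAbove) ≫ P.map (homOfLE (inter_comp_le U x j.succAbove)).op) := by
  refine (congrArg (· ≫ cmpHom P U (n + 1) x) (CochainComplex.of_d (fun i ↦ ((FormalCoproduct.cosimplicialObjectFunctor (FormalCoproduct.mk _ U).cech).obj P).obj ⦋i⦌) (AlgebraicTopology.AlternatingCofaceMapComplex.objD _) n)).trans ?_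
  refine (Preadditive.sum_comp ..).trans (Finset.sum_congr rfl fun j _ ↦ ?_)
  refine (Preadditive.zsmul_comp ..).trans (congrArg (((-1 : ℤ) ^ (j : ℕ)) • ·) ?_)
  refine (Category.assoc _ _ _).symm.trans ?_
  refine (congrArg (fun f : (mlCech P U).X n ⟶ P.obj (op (∏ᶜ (U ∘ x))) ↦ f ≫ P.map (homOfLE (inter_le_piObj U (n + 1) x)).op) (Pi.lift_π (f := fun x : Fin (n + 2) → ι ↦ P.obj (op (∏ᶜ (U ∘ x)))) _ x)).trans ?_
  refine (Category.assoc _ _ _).trans ?_
  refine Eq.trans ?_ (Category.assoc _ _ _).symm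
  refine congrArg (Pi.π (fun x : Fin (n + 1) → ι ↦ P.obj (op (∏ᶜ (U ∘ x)))) (x ∘ j.succAbove) ≫ ·) ?_
  exact (P.map_comp _ _).symm.trans ((congrArg P.map (Subsingleton.elim _ _)).trans (P.map_comp _ _))

lemma hom_sum_apply {A B : AddCommGrpCat.{u}} {κ : Type*} (s : Finset κ) (f : κ → (A ⟶ B)) (a : A) :
    (∑ i ∈ s, f i).hom a = ∑ i ∈ s, (f i).hom a :=
  map_sum (AddMonoidHom.mk' (fun g : A ⟶ B ↦ g.hom a) fun _ _ ↦ rfl) f s

lemma cmp_d (n : ℕ) (s : (mlCech P U).X n) :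
    cmp P U (n + 1) (((mlCech P U).d n (n + 1)).hom s) = cd P U n (cmp P U n s) := by
  funext x
  change ((mlCech P U).d n (n + 1) ≫ cmpHom P U (n + 1) x).hom s = _
  rw [mlCech_d_cmpHom, cd_apply, hom_sum_apply]
  refine Finset.sum_congr rfl fun j _ ↦ ?_
  rw [AddCommGrpCat.hom_zsmul]
  rfl

lemma cd_cd (n : ℕ) (s : Cochain P U n) : cd P U (n + 1) (cd P U n s) = 0 := by
  obtain ⟨t, rfl⟩ := (cmp_bijective P U n).2 s
  rw [← cmp_d, ← cmp_d]
  have : (mlCech P U).d n (n + 1) ≫ (mlCech P U).d (n + 1) (n + 2) = 0 :=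
    HomologicalComplex.d_comp_d _ _ _ _
  have h := congr($this t)
  exact (congrArg (cmp P U (n + 2)) h).trans (map_zero _)

lemma isZero_homology_iff_cechExact (n : ℕ) :
    IsZero ((mlCech P U).homology (n + 1)) ↔ CechExact P U n := by
  rw [← HomologicalComplex.exactAt_iff_isZero_homology,
    (mlCech P U).exactAt_iff' n (n + 1) (n + 2) (by simp) (by simp),
    ShortComplex.ab_exact_iff]
  constructor
  · intro h s hs
    obtain ⟨s', rfl⟩ := (cmp_bijective P U (n + 1)).2 s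
    obtain ⟨t, ht⟩ := h s' ((cmp_bijective P U (n + 2)).1 (by
      exact ((cmp_d P U (n + 1) s').trans hs).trans (map_zero _).symm))
    exact ⟨cmp P U n t, by rw [← cmp_d]; exact congrArg _ ht⟩
  · intro h s' hs'
    obtain ⟨t, ht⟩ := h (cmp P U (n + 1) s') (by
      rw [← cmp_d]
      exact (congrArg (cmp P U (n + 2)) hs').trans (map_zero _))
    obtain ⟨t', rfl⟩ := (cmp_bijective P U n).2 t
    exact ⟨t', (cmp_bijective P U (n + 1)).1 ((cmp_d P U n t').trans ht)⟩

end Compare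

end Groth.Agent.CohAff
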