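import Groth.Agent.CohAff.CechH
import Mathlib.Algebra.Homology.ShortComplex.Ab

/-!
# Čech cohomology is sheaf cohomology for acyclic coverings
-/

universe u

open CategoryTheory Limits Opposite TopologicalSpace

namespace Groth.Agent.CohAff

variable {X : TopCat.{u}} {ι : Type u} {U : ι → Opens X}

/-- homology of a short complex of abelian groups from a surjection on cycles -/
noncomputable def abHomologyEquivOfSurjective (S : ShortComplex AddCommGrpCat.{u}) {A : Type u}
    [AddCommGroup A] (φ : AddMonoidHom.ker S.g.hom →+ A) (hs : Function.Surjective φ)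
    (hk : φ.ker = AddMonoidHom.range S.abToCycles) : S.homology ≃+ A :=
  S.abHomologyIso.addCommGroupIsoToAddEquiv.trans
    ((QuotientAddGroup.quotientAddEquivOfEq hk.symm).trans
      (QuotientAddGroup.quotientKerEquivOfSurjective φ hs))

variable (hU : ⨆ i, U i = ⊤)

/-- cocycles of Mathlib's complex to cohomology -/
noncomputable def mlToH (F : AbSh X) (p : ℕ) :
    AddMonoidHom.ker ((mlCech F.obj U).d p (p + 1)).hom →+ Sheaf.H F p :=
  (toHHom hU p F).comp
    (((cmp F.obj U p).comp (AddSubgroup.subtype _)).codRestrict _ fun z ↦ by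
      change cd F.obj U p (cmp F.obj U p z.1) = 0
      rw [← cmp_d]
      exact (congrArg (cmp F.obj U (p + 1)) z.2).trans (map_zero _))

lemma mlToH_apply (F : AbSh X) (p : ℕ) (z : AddMonoidHom.ker ((mlCech F.obj U).d p (p + 1)).hom) :
    mlToH hU F p z = toH hU p F (cmp F.obj U p z.1) (by
      rw [← cmp_d]
      exact (congrArg (cmp F.obj U (p + 1)) z.2).trans (map_zero _)) := rfl

variable {C : CovSys X} {F : AbSh X} (hF : C.Good F)
  (hmem : ∀ {n : ℕ} (x : Fin (n + 1) → ι), C.mem (inter U x))

include hU hF hmem in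
lemma mlToH_surjective (p : ℕ) : Function.Surjective (mlToH hU F p) := by
  intro h
  obtain ⟨c, hc, hch⟩ := exists_toH_eq hU (fun {n} x ↦ hmem x) hF h
  obtain ⟨z, rfl⟩ := (cmp_bijective F.obj U p).2 c
  refine ⟨⟨z, (cmp_bijective F.obj U (p + 1)).1 ?_⟩, ?_⟩
  · exact ((cmp_d F.obj U p z).trans hc).trans (map_zero _).symm
  · rw [mlToH_apply]
    exact hch

include hU hF hmem in
/-- Čech cohomology of an acyclic covering computes sheaf cohomology -/
theorem nonempty_cechEquiv (p : ℕ) :
    Nonempty (((mlCech F.obj U).homology p : Type u) ≃+ Sheaf.H F p) := by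
  rcases p with _ | p
  · refine ⟨((mlCech F.obj U).homologyIsoSc' 0 0 1 (by simp) (by simp)).addCommGroupIsoToAddEquiv.trans
      (abHomologyEquivOfSurjective _ (mlToH hU F 0) (mlToH_surjective hU hF (fun {n} x ↦ hmem x) 0) ?_)⟩
    have hf : ((mlCech F.obj U).sc' 0 0 1).f = 0 := (mlCech F.obj U).shape 0 0 (by simp)
    apply le_antisymm
    · intro z hz
      have hz0 := hz
      rw [AddMonoidHom.mem_ker] at hz0
      replace hz0 := (mlToH_apply hU F 0 z).symm.trans hz0
      obtain ⟨s, hs⟩ := exists_aug_eq F hU (c := cmp F.obj U 0 z.1) (by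
        rw [← cmp_d]
        exact (congrArg (cmp F.obj U 1) z.2).trans (map_zero _))
      rw [toH_zero_eq hU F _ hs] at hz0
      have : s = 0 := by simpa using hz0
      have hz1 : z.1 = 0 := (cmp_bijective F.obj U 0).1 (by
        rw [← hs, this, map_zero]
        exact (map_zero _).symm)
      exact ⟨0, (map_zero _).trans (Subtype.ext hz1.symm)⟩
    · rintro _ ⟨y, rfl⟩
      have : ((mlCech F.obj U).sc' 0 0 1).abToCycles y = 0 := Subtype.ext (congr($hf y))
      rw [this]
      exact zero_mem _
  · refine ⟨((mlCech F.obj U).homologyIsoSc' p (p + 1) (p + 2) (by simp) (by simp)).addCommGroupIsoToAddEquiv.trans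
      (abHomologyEquivOfSurjective _ (mlToH hU F (p + 1))
        (mlToH_surjective hU hF (fun {n} x ↦ hmem x) (p + 1)) ?_)⟩
    apply le_antisymm
    · intro z hz
      replace hz : toH hU (p + 1) F (cmp F.obj U (p + 1) z.1) (by
          rw [← cmp_d]
          exact (congrArg (cmp F.obj U (p + 1 + 1)) z.2).trans (map_zero _)) = 0 :=
        (mlToH_apply hU F (p + 1) z).symm.trans hz
      obtain ⟨t, ht⟩ := exists_cd_eq_of_toH_eq_zero hU (fun {n} x ↦ hmem x) hF _ hz
      obtain ⟨y, rfl⟩ := (cmp_bijective F.obj U p).2 t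
      exact ⟨y, Subtype.ext ((cmp_bijective F.obj U (p + 1)).1 ((cmp_d F.obj U p y).trans ht))⟩
    · rintro _ ⟨y, rfl⟩
      refine (AddMonoidHom.mem_ker).2 ((mlToH_apply hU F (p + 1) _).trans ?_)
      refine (toH_congr hU (c := cmp F.obj U (p + 1) _) (cmp_d F.obj U p y) _ (cd_cd _ _ _ _)).trans ?_
      exact toH_cd hU F _

end Groth.Agent.CohAff
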