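import Groth.Agent.CohAff.Cartan

/-!
# Comparison of effaceable cohomological theories along Godement sequences
-/

universe u

open CategoryTheory Limits Opposite TopologicalSpace Abelian

namespace Groth.Agent.CohAff

variable {X : TopCat.{u}}

lemma gdMap_id (F : AbSh X) : gdMap (𝟙 F) = 𝟙 (gd F) := by
  apply CategoryTheory.Sheaf.hom_ext
  ext U s
  funext p
  exact congr($((TopCat.Presheaf.stalkFunctor AddCommGrpCat.{u} p.1).map_id F.obj) (s p))

lemma gdMap_comp {F G H : AbSh X} (φ : F ⟶ G) (ψ : G ⟶ H) :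
    gdMap (φ ≫ ψ) = gdMap φ ≫ gdMap ψ := by
  apply CategoryTheory.Sheaf.hom_ext
  ext U s
  funext p
  exact congr($((TopCat.Presheaf.stalkFunctor AddCommGrpCat.{u} p.1).map_comp φ.hom ψ.hom) (s p))

/-- functoriality of the quotient -/
noncomputable def qMap {F F' : AbSh X} (φ : F ⟶ F') : qt F ⟶ qt F' :=
  cokernel.map (η F) (η F') φ (gdMap φ) (η_naturality φ).symm

lemma π_qMap {F F' : AbSh X} (φ : F ⟶ F') :
    cokernel.π (η F) ≫ qMap φ = gdMap φ ≫ cokernel.π (η F') :=
  cokernel.π_desc _ _ _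

/-- the morphism of Godement sequences -/
noncomputable def gdSeqMap {F F' : AbSh X} (φ : F ⟶ F') : gdSeq F ⟶ gdSeq F' :=
  ShortComplex.homMk φ (gdMap φ) (qMap φ) (η_naturality φ) (π_qMap φ).symm

/-- the quotient, as a functor -/
noncomputable def qtFunctor (X : TopCat.{u}) : AbSh X ⥤ AbSh X where
  obj := qt
  map := qMap
  map_id F := by
    rw [← cancel_epi (cokernel.π (η F)), π_qMap, gdMap_id]
    exact (Category.id_comp _).trans (Category.comp_id _).symm
  map_comp {F G H} φ ψ := by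
    rw [← cancel_epi (cokernel.π (η F)), π_qMap, gdMap_comp, ← Category.assoc, π_qMap,
      Category.assoc, Category.assoc, π_qMap]

/-- A sequence of functors with connecting maps along the Godement sequences of sheaves satisfying
`P`, presenting the next functor as the cokernel of the previous one. -/
structure GdDelta (P : AbSh X → Prop) : Type (u + 1) where
  /-- the functors -/
  T : ℕ → AbSh X ⥤ AddCommGrpCat.{u}
  /-- connecting maps -/
  δ : ∀ (n : ℕ) (F : AbSh X), P F → ((T n).obj (qt F) ⟶ (T (n + 1)).obj F)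
  w : ∀ (n : ℕ) (F : AbSh X) (h : P F), (T n).map (cokernel.π (η F)) ≫ δ n F h = 0
  /-- the cokernel property -/
  isCokernel : ∀ (n : ℕ) (F : AbSh X) (h : P F), IsColimit (CokernelCofork.ofπ (δ n F h) (w n F h))
  δ_nat : ∀ (n : ℕ) {F F' : AbSh X} (φ : F ⟶ F') (h : P F) (h' : P F'),
    (T n).map (qMap φ) ≫ δ n F' h' = δ n F h ≫ (T (n + 1)).map φ

namespace GdDelta

variable {P : AbSh X → Prop}

lemma epi_δ (D : GdDelta P) (n : ℕ) (F : AbSh X) (h : P F) : Epi (D.δ n F h) :=
  ⟨fun _ _ w ↦ Cofork.IsColimit.hom_ext (D.isCokernel n F h) w⟩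

/-- natural isomorphisms in a fixed degree -/
structure DegreeIso (D E : GdDelta P) (n : ℕ) : Type (u + 1) where
  /-- components -/
  app : ∀ F, P F → ((D.T n).obj F ≅ (E.T n).obj F)
  naturality : ∀ {F F' : AbSh X} (φ : F ⟶ F') (h : P F) (h' : P F'),
    (D.T n).map φ ≫ (app F' h').hom = (app F h).hom ≫ (E.T n).map φ

variable (hgd : ∀ F, P (gd F)) (hqt : ∀ F, P F → P (qt F))

/-- the step of the comparison -/
noncomputable def succHom {D E : GdDelta P} {n : ℕ} (i : DegreeIso D E n) (F : AbSh X) (h : P F) :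
    (D.T (n + 1)).obj F ≅ (E.T (n + 1)).obj F :=
  CokernelCofork.mapIsoOfIsColimit
    (D.isCokernel n F h) (E.isCokernel n F h)
    (Arrow.isoMk (i.app (gd F) (hgd F)) (i.app (qt F) (hqt F h))
      (i.naturality (cokernel.π (η F)) (hgd F) (hqt F h)).symm)

lemma δ_succHom {D E : GdDelta P} {n : ℕ} (i : DegreeIso D E n) (F : AbSh X) (h : P F) :
    D.δ n F h ≫ (succHom hgd hqt i F h).hom = (i.app (qt F) (hqt F h)).hom ≫ E.δ n F h :=
  CokernelCofork.π_mapOfIsColimit (D.isCokernel n F h) _ _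

/-- the comparison in the next degree -/
noncomputable def DegreeIso.succ {D E : GdDelta P} {n : ℕ} (i : DegreeIso D E n) :
    DegreeIso D E (n + 1) where
  app := succHom hgd hqt i
  naturality {F F'} φ h h' := by
    have := D.epi_δ n F h
    rw [← cancel_epi (D.δ n F h), ← Category.assoc, ← D.δ_nat n φ h h', Category.assoc,
      δ_succHom, ← Category.assoc, i.naturality (qMap φ) (hqt F h) (hqt F' h'), Category.assoc,
      E.δ_nat n φ h h', ← Category.assoc, ← δ_succHom hgd hqt i F h, Category.assoc]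

/-- comparison in all degrees -/
noncomputable def degreeIso {D E : GdDelta P} (i : DegreeIso D E 0) : ∀ n, DegreeIso D E n
  | 0 => i
  | n + 1 => (degreeIso i n).succ hgd hqt

/-- restriction to a smaller class -/
noncomputable def ofImp {Q : AbSh X → Prop} (D : GdDelta P) (h : ∀ F, Q F → P F) : GdDelta Q where
  T := D.T
  δ n F hF := D.δ n F (h F hF)
  w n F hF := D.w n F (h F hF)
  isCokernel n F hF := D.isCokernel n F (h F hF)
  δ_nat n _ _ φ hF hF' := D.δ_nat n φ (h _ hF) (h _ hF')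

/-- constructor from exactness and surjectivity -/
noncomputable def mk' (T : ℕ → AbSh X ⥤ AddCommGrpCat.{u})
    (δ : ∀ (n : ℕ) (F : AbSh X), P F → ((T n).obj (qt F) ⟶ (T (n + 1)).obj F))
    (w : ∀ (n : ℕ) (F : AbSh X) (h : P F), (T n).map (cokernel.π (η F)) ≫ δ n F h = 0)
    (surj : ∀ (n : ℕ) (F : AbSh X) (h : P F), Function.Surjective (δ n F h).hom)
    (exact : ∀ (n : ℕ) (F : AbSh X) (h : P F) (x : (T n).obj (qt F)), (δ n F h).hom x = 0 →
      ∃ y, ((T n).map (cokernel.π (η F))).hom y = x)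
    (δ_nat : ∀ (n : ℕ) {F F' : AbSh X} (φ : F ⟶ F') (h : P F) (h' : P F'),
      (T n).map (qMap φ) ≫ δ n F' h' = δ n F h ≫ (T (n + 1)).map φ) : GdDelta P where
  T := T
  δ := δ
  w := w
  δ_nat := δ_nat
  isCokernel n F h :=
    haveI : Epi (ShortComplex.mk _ _ (w n F h)).g := (AddCommGrpCat.epi_iff_surjective _).2 (surj n F h)
    ShortComplex.Exact.gIsCokernel (S := ShortComplex.mk _ _ (w n F h))
      ((ShortComplex.ab_exact_iff _).2 (exact n F h))

end GdDelta

section HDelta

variable (X)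

lemma h_w (n : ℕ) (F : AbSh X) (x : Sheaf.H (gd F) n) :
    (Sheaf.H.map (cokernel.π (η F)) n x).comp (gdSeq_shortExact F).extClass rfl = 0 := by
  rw [Sheaf.H.map_apply, Ext.comp_assoc_of_second_deg_zero]
  have := (gdSeq_shortExact F).comp_extClass
  exact (congrArg (fun e ↦ Ext.comp x e rfl) this).trans (Ext.comp_zero x F 1 _ rfl)

lemma h_nat (n : ℕ) {F F' : AbSh X} (φ : F ⟶ F') (x : Sheaf.H (qt F) n) :
    (Sheaf.H.map (qMap φ) n x).comp (gdSeq_shortExact F').extClass rfl =
      Sheaf.H.map φ (n + 1) (Ext.comp x (gdSeq_shortExact F).extClass rfl) := by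
  rw [Sheaf.H.map_apply, Sheaf.H.map_apply, Ext.comp_assoc_of_second_deg_zero]
  refine Eq.trans ?_ (Ext.comp_assoc_of_third_deg_zero x (gdSeq_shortExact F).extClass (Ext.mk₀ φ) rfl).symm
  exact congrArg (fun e ↦ Ext.comp x e rfl)
    (ShortComplex.ShortExact.extClass_naturality (gdSeq_shortExact F) (gdSeq_shortExact F')
      (gdSeqMap φ)).symm

/-- sheaf cohomology as a theory -/
noncomputable def hDelta : GdDelta (X := X) (fun _ ↦ True) :=
  GdDelta.mk' (fun n ↦ Sheaf.functorH (Opens.grothendieckTopology X) n)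
    (fun n F _ ↦ AddCommGrpCat.ofHom ((gdSeq_shortExact F).extClass.postcomp _ rfl))
    (fun n F _ ↦ AddCommGrpCat.hom_ext (AddMonoidHom.ext fun x ↦ h_w X n F x))
    (fun n F _ x ↦ by
      have : Subsingleton (Sheaf.H (gd F) (n + 1)) := (uAcyclic_gd F).subsingleton_H n
      exact Ext.covariant_sequence_exact₁ _ (gdSeq_shortExact F) x
        (Subsingleton.elim (α := Sheaf.H (gd F) (n + 1)) _ _) rfl)
    (fun n F _ x hx ↦ Ext.covariant_sequence_exact₃ _ (gdSeq_shortExact F) x rfl hx)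
    (fun n _ _ φ _ _ ↦ AddCommGrpCat.hom_ext (AddMonoidHom.ext fun x ↦ h_nat X n φ x))

end HDelta

end Groth.Agent.CohAff
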