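import Groth.Agent.CohAff.Cech
import Mathlib.Topology.Sheaves.Abelian
import Mathlib.Topology.Sheaves.AddCommGrpCat
import Mathlib.Topology.Sheaves.LocallySurjective
import Mathlib.Topology.Sheaves.SheafOfFunctions
import Mathlib.CategoryTheory.Sites.EpiMono

/-!
# The Godement embedding of an abelian sheaf on a space
-/

universe u

open CategoryTheory Limits Opposite TopologicalSpace

namespace Groth.Agent.CohAff

variable {X : TopCat.{u}}

/-- abelian sheaves on a space -/
abbrev AbSh (X : TopCat.{u}) := Sheaf (Opens.grothendieckTopology X) AddCommGrpCat.{u}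

/-- the presheaf of families of germs -/
noncomputable def gdPre (F : TopCat.Presheaf AddCommGrpCat.{u} X) :
    TopCat.Presheaf AddCommGrpCat.{u} X where
  obj U := AddCommGrpCat.of (∀ p : U.unop, (F.stalk (p : X) : Type u))
  map {U V} i := AddCommGrpCat.ofHom
    (AddMonoidHom.mk' (fun s (p : V.unop) ↦ s ⟨p.1, leOfHom i.unop p.2⟩) fun _ _ ↦ rfl)
  map_id _ := rfl
  map_comp _ _ := rfl

lemma gdPre_isSheaf (F : TopCat.Presheaf AddCommGrpCat.{u} X) : (gdPre F).IsSheaf :=
  (TopCat.Presheaf.isSheaf_iff_isSheaf_comp (forget AddCommGrpCat.{u}) _).2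
    (TopCat.Presheaf.toTypes_isSheaf X fun p ↦ (F.stalk p : Type u))

/-- the Godement sheaf -/
noncomputable def gd (F : AbSh X) : AbSh X := ⟨gdPre F.obj, gdPre_isSheaf F.obj⟩

/-- the Godement embedding, on presheaves -/
noncomputable def ηPre (F : TopCat.Presheaf AddCommGrpCat.{u} X) : F ⟶ gdPre F where
  app U := AddCommGrpCat.ofHom
    (AddMonoidHom.mk' (fun s (p : U.unop) ↦ (F.germ U.unop p.1 p.2).hom s)
      fun _ _ ↦ funext fun _ ↦ map_add _ _ _)
  naturality U V i := by
    ext s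
    funext (p : V.unop)
    exact F.germ_res_apply i.unop p.1 p.2 s

/-- the Godement embedding -/
noncomputable def η (F : AbSh X) : F ⟶ gd F := ⟨ηPre F.obj⟩

lemma η_app_injective (F : AbSh X) (U : Opens X) :
    Function.Injective ((η F).hom.app (op U)).hom := by
  intro s t h
  refine TopCat.Presheaf.section_ext F U s t fun p hp ↦ ?_
  exact congrFun h ⟨p, hp⟩

instance (F : AbSh X) : Mono (η F) := by
  have : ∀ U : (Opens X)ᵒᵖ, Mono ((η F).hom.app U) := fun U ↦
    (AddCommGrpCat.mono_iff_injective _).2 (η_app_injective F U.unop)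
  have : Mono (η F).hom := NatTrans.mono_of_mono_app _
  exact (sheafToPresheaf _ _).mono_of_mono_map this

/-- functoriality of the Godement sheaf -/
noncomputable def gdMap {F F' : AbSh X} (φ : F ⟶ F') : gd F ⟶ gd F' :=
  ⟨{ app := fun U ↦ AddCommGrpCat.ofHom
      (AddMonoidHom.mk'
        (fun s (p : U.unop) ↦ ((TopCat.Presheaf.stalkFunctor _ p.1).map φ.hom).hom (s p))
        fun _ _ ↦ funext fun _ ↦ map_add _ _ _)
     naturality := fun _ _ _ ↦ rfl }⟩

lemma η_naturality {F F' : AbSh X} (φ : F ⟶ F') : φ ≫ η F' = η F ≫ gdMap φ := by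
  apply CategoryTheory.Sheaf.hom_ext
  ext U s
  funext (p : U.unop)
  exact (TopCat.Presheaf.stalkFunctor_map_germ_apply U.unop p.1 p.2 φ.hom s).symm

/-- the quotient of the Godement embedding -/
noncomputable abbrev qt (F : AbSh X) : AbSh X := cokernel (η F)

/-- the short exact sequence `0 ⟶ F ⟶ gd F ⟶ qt F ⟶ 0` -/
noncomputable def gdSeq (F : AbSh X) : ShortComplex (AbSh X) :=
  ShortComplex.mk (η F) (cokernel.π (η F)) (cokernel.condition _)

lemma gdSeq_shortExact (F : AbSh X) : (gdSeq F).ShortExact where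
  exact := ShortComplex.exact_cokernel _
  mono_f := inferInstanceAs (Mono (η F))
  epi_g := inferInstanceAs (Epi (cokernel.π (η F)))

section Sections

variable {S : ShortComplex (AbSh X)}

/-- section map of a morphism -/
noncomputable abbrev sec {F G : AbSh X} (φ : F ⟶ G) (U : Opens X) :
    F.obj.obj (op U) →+ G.obj.obj (op U) :=
  (φ.hom.app (op U)).hom

lemma sec_res {F G : AbSh X} (φ : F ⟶ G) {U V : Opens X} (h : V ≤ U) (s : F.obj.obj (op U)) :
    res G.obj h (sec φ U s) = sec φ V (res F.obj h s) :=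
  res_app φ.hom h s

lemma sec_f_injective (hS : S.ShortExact) (U : Opens X) : Function.Injective (sec S.f U) := by
  have := hS.mono_f
  have : Mono S.f.hom :=
    inferInstanceAs (Mono ((sheafToPresheaf (Opens.grothendieckTopology X) AddCommGrpCat.{u}).map S.f))
  have : Mono (S.f.hom.app (op U)) := inferInstance
  exact (AddCommGrpCat.mono_iff_injective _).1 this

lemma sec_exact (hS : S.ShortExact) {U : Opens X} {s : S.X₂.obj.obj (op U)} (h : sec S.g U s = 0) :
    ∃ t, sec S.f U t = s :=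
  TopCat.Sheaf.sections_exact_of_left_exact hS.exact hS.mono_f s h

lemma sec_g_f (U : Opens X) (s : S.X₁.obj.obj (op U)) : sec S.g U (sec S.f U s) = 0 := by
  have h : (S.f ≫ S.g).hom.app (op U) = 0 := by rw [S.zero]; rfl
  exact congr($h s)

lemma sec_locally_surjective (hS : S.ShortExact) {U : Opens X} (s : S.X₃.obj.obj (op U)) {p : X}
    (hp : p ∈ U) :
    ∃ (W : Opens X) (hW : W ≤ U), p ∈ W ∧ ∃ t, sec S.g W t = res S.X₃.obj hW s := by
  obtain ⟨W, hW, ⟨t, ht⟩, hpW⟩ := (TopCat.Presheaf.isLocallySurjective_iff S.g.hom).mp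
    ((TopCat.Sheaf.isLocallySurjective_iff_epi S.g).mpr hS.epi_g) U s p hp
  exact ⟨W, hW, hpW, t, ht⟩

end Sections

/-- the Godement sheaf has exact Čech complexes, for every family of opens -/
lemma gdPre_cechExact (F : TopCat.Presheaf AddCommGrpCat.{u} X) {ι : Type u} (U : ι → Opens X)
    (n : ℕ) : CechExact (gdPre F) U n := by
  intro s hs
  have hsv : ∀ (x x' : Fin (n + 2) → ι) (_ : x = x') (p : X) (hp : p ∈ inter U x)
      (hp' : p ∈ inter U x'), s x ⟨p, hp⟩ = s x' ⟨p, hp'⟩ := by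
    rintro x x' rfl p hp hp'
    rfl
  let k : ∀ p : X, (∃ i, p ∈ U i) → ι := fun p h ↦ h.choose
  have hk : ∀ (p : X) (h : ∃ i, p ∈ U i), p ∈ U (k p h) := fun p h ↦ h.choose_spec
  have hex : ∀ {m : ℕ} (x : Fin (m + 1) → ι) (p : X), p ∈ inter U x → ∃ i, p ∈ U i :=
    fun x p hp ↦ ⟨x 0, mem_inter.1 hp 0⟩
  have hc : ∀ {m : ℕ} (x : Fin (m + 1) → ι) (p : X) (hp : p ∈ inter U x),
      p ∈ inter U (Fin.cons (k p (hex x p hp)) x : Fin (m + 2) → ι) := by
    intro m x p hp
    rw [mem_inter]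
    intro a
    induction a using Fin.cases with
    | zero => exact hk _ _
    | succ a => exact mem_inter.1 hp a
  let t : Cochain (gdPre F) U n :=
    fun y (p : inter U y) ↦ s (Fin.cons (k p.1 (hex y p.1 p.2)) y) ⟨p.1, hc y p.1 p.2⟩
  refine ⟨t, ?_⟩
  funext x
  funext (p : inter U x)
  obtain ⟨p, hp⟩ := p
  let pr : ∀ {W : Opens X} (_ : p ∈ W), (gdPre F).obj (op W) →+ (F.stalk p : Type u) :=
    fun {W} h ↦ AddMonoidHom.mk' (fun t ↦ t ⟨p, h⟩) fun _ _ ↦ rfl
  have key : pr (hc x p hp) (cd (gdPre F) U (n + 1) s (Fin.cons (k p (hex x p hp)) x)) = 0 := by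
    rw [hs]
    rfl
  rw [cd_apply, map_sum, Fin.sum_univ_succ, map_zsmul] at key
  change pr hp (cd (gdPre F) U n t x) = pr hp (s x)
  rw [cd_apply, map_sum]
  simp only [map_zsmul]
  have h0 : pr (hc x p hp) (res (gdPre F) (inter_comp_le U (Fin.cons (k p (hex x p hp)) x)
      (0 : Fin (n + 3)).succAbove)
      (s ((Fin.cons (k p (hex x p hp)) x : Fin (n + 3) → ι) ∘ (0 : Fin (n + 3)).succAbove)))
      = pr hp (s x) := by
    refine hsv _ _ ?_ p _ _
    funext a
    simp
  rw [h0, Fin.val_zero, pow_zero, one_smul] at key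
  rw [eq_neg_of_add_eq_zero_left key, ← Finset.sum_neg_distrib]
  refine Finset.sum_congr rfl fun j _ ↦ ?_
  rw [map_zsmul, Fin.val_succ, pow_succ, ← neg_zsmul]
  have he : (-((-1 : ℤ) ^ (j : ℕ) * -1)) = (-1 : ℤ) ^ (j : ℕ) := by ring
  rw [he]
  congr 1
  refine hsv _ _ ?_ p _ _
  rw [Fin.cons_comp_succ_succAbove]
  rfl

end Groth.Agent.CohAff
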