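import Groth.Agent.CohAff.ResQcqs
import Mathlib.CategoryTheory.Abelian.RightDerived

/-!
# Higher direct images through flasque resolutions

For `f : X ⟶ Y` qcqs and a resolution `R` of a quasi-coherent module, `FRes.Rc R f n` (a model of
`R^(n+1) f_*`) has as sections on an affine open `V` the cohomology of `f ⁻¹ᵁ V`, and is
quasi-coherent.
-/

universe u

open CategoryTheory Limits Opposite TopologicalSpace AlgebraicGeometry

namespace Groth.Agent.CohAff

open Groth.Agent.QCoh (rres_rres app_res)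

local notation "rs" => Groth.Agent.QCoh.res
local notation "rr" => Groth.Agent.QCoh.rres

variable {X Y : Scheme.{u}}

namespace FRes

variable (R : FRes X) (f : X ⟶ Y)

/-- the differential, pushed forward -/
noncomputable abbrev pP (n : ℕ) :
    (Scheme.Modules.pushforward f).obj (R.J n) ⟶ (Scheme.Modules.pushforward f).obj (R.Z (n + 1)) :=
  (Scheme.Modules.pushforward f).map (R.p n)

/-- model of `R^(n+1) f_*` -/
noncomputable abbrev Rc (n : ℕ) : Y.Modules := cokernel (R.pP f n)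

/-- the class of a cocycle on `f ⁻¹ᵁ V` -/
noncomputable def π' (n : ℕ) (V : Y.Opens) : Γ(R.Z (n + 1), f ⁻¹ᵁ V) →+ Γ(R.Rc f n, V) :=
  (Scheme.Modules.Hom.app (cokernel.π (R.pP f n)) V).hom

lemma π'_res (n : ℕ) {V V' : Y.Opens} (h : V' ≤ V) (x : Γ(R.Z (n + 1), f ⁻¹ᵁ V)) :
    rs (R.Rc f n) h (R.π' f n V x) = R.π' f n V' (rs (R.Z (n + 1)) (f.preimage_mono h) x) :=
  (QCoh.app_res (cokernel.π (R.pP f n)) h x).symm

lemma π'_smul (n : ℕ) {V : Y.Opens} (r : Γ(Y, V)) (x : Γ(R.Z (n + 1), f ⁻¹ᵁ V)) :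
    R.π' f n V (f.app V r • x) = r • R.π' f n V x :=
  Scheme.Modules.Hom.app_smul (cokernel.π (R.pP f n)) r x

lemma π'_eq_zero_of_ex (n : ℕ) {V : Y.Opens} {x : Γ(R.Z (n + 1), f ⁻¹ᵁ V)}
    (h : R.Ex (n + 1) _ x) : R.π' f n V x = 0 := by
  obtain ⟨a, ha⟩ := h
  rw [← ha]
  exact QCoh.app_app_eq_zero
    (ShortComplex.mk (R.pP f n) (cokernel.π (R.pP f n)) (cokernel.condition _)) V a

lemma exists_locally_π' (n : ℕ) {V : Y.Opens} (r : Γ(R.Rc f n, V)) (y : Y) (hy : y ∈ V) :
    ∃ (V' : Y.Opens) (h : V' ≤ V), y ∈ V' ∧ ∃ x, R.π' f n V' x = rs (R.Rc f n) h r :=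
  QCoh.exists_locally_app_eq (cokernel.π (R.pP f n)) V r y hy

lemma exists_locally_ex (n : ℕ) {V : Y.Opens} {x : Γ(R.Z (n + 1), f ⁻¹ᵁ V)}
    (h : R.π' f n V x = 0) (y : Y) (hy : y ∈ V) :
    ∃ (V' : Y.Opens) (h : V' ≤ V), y ∈ V' ∧
      R.Ex (n + 1) _ (rs (R.Z (n + 1)) (f.preimage_mono h) x) := by
  let c := cokernel.π (R.pP f n)
  let l : (Scheme.Modules.pushforward f).obj (R.J n) ⟶ kernel c :=
    kernel.lift c (R.pP f n) (cokernel.condition _)
  have : Epi l := by
    have := (ShortComplex.exact_cokernel (R.pP f n)).epi_kernelLift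
    exact this
  obtain ⟨z, hz⟩ := QCoh.exists_app_eq_of_app_eq_zero
    (ShortComplex.mk (kernel.ι c) c (kernel.condition c))
    (ShortComplex.exact_of_f_is_kernel _ (kernelIsKernel c)) V x h
  obtain ⟨V', hV', hy', t, ht⟩ := QCoh.exists_locally_app_eq l V z y hy
  refine ⟨V', hV', hy', t, ?_⟩
  have e : Scheme.Modules.Hom.app (R.pP f n) V' t =
      rs ((Scheme.Modules.pushforward f).obj (R.Z (n + 1))) hV' x := by
    rw [show Scheme.Modules.Hom.app (R.pP f n) V' t =
        Scheme.Modules.Hom.app (kernel.ι c) V' (Scheme.Modules.Hom.app l V' t) by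
      rw [← ConcreteCategory.comp_apply, ← Scheme.Modules.Hom.comp_app, kernel.lift_ι],
      ht, QCoh.app_res]
    exact congrArg _ hz
  exact e

section Qcqs

variable [hq : (R.Z 0).IsQuasicoherent] [QuasiCompact f] [QuasiSeparated f]

lemma loc_preimage {V : Y.Opens} (hV : IsAffineOpen V) (g : Γ(Y, V)) (n : ℕ) :
    R.Loc n (f.app V g) (f ⁻¹ᵁ V) le_rfl :=
  R.loc_of_isCompact (f.isQuasiSeparated_preimage hV.isQuasiSeparated) _ le_rfl
    (QuasiCompact.isCompact_preimage _ V.2 hV.isCompact) n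

omit hq [QuasiCompact f] [QuasiSeparated f] in
lemma preimage_basicOpen_eq {V : Y.Opens} (g : Γ(Y, V)) :
    f ⁻¹ᵁ V ⊓ X.basicOpen (f.app V g) = f ⁻¹ᵁ Y.basicOpen g := by
  rw [Scheme.preimage_basicOpen]
  exact inf_eq_right.2 (X.basicOpen_le _)

omit hq [QuasiCompact f] [QuasiSeparated f] in
lemma app_rres {V V' : Y.Opens} (h : V' ≤ V) (r : Γ(Y, V)) :
    f.app V' (rr h r) = rr (f.preimage_mono h) (f.app V r) :=
  congr($(f.naturality (homOfLE h).op) r)

omit hq [QuasiCompact f] [QuasiSeparated f] in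
lemma res_smul' (n : ℕ) {V V' : Y.Opens} (h : V' ≤ V) (g : Γ(Y, V)) (N : ℕ)
    (x : Γ(R.Z (n + 1), f ⁻¹ᵁ V')) :
    R.π' f n V' (rr (f.preimage_mono h) (f.app V g) ^ N • x) = rr h g ^ N • R.π' f n V' x := by
  rw [← app_rres, ← map_pow, π'_smul]

lemma exists_pow_ex {V : Y.Opens} (hV : IsAffineOpen V) (g : Γ(Y, V)) (n : ℕ)
    (x : Γ(R.Z (n + 1), f ⁻¹ᵁ V))
    (h : R.Ex (n + 1) _ (rs (R.Z (n + 1)) (f.preimage_mono (Y.basicOpen_le g)) x)) :
    ∃ N : ℕ, R.Ex (n + 1) _ (f.app V g ^ N • x) := by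
  have h' := h.res (preimage_basicOpen_eq f g).le
  rw [QCoh.res_res] at h'
  obtain ⟨N, hN⟩ := (R.loc_preimage f hV g (n + 1)).inj x h'
  rw [QCoh.rres_self] at hN
  exact ⟨N, hN⟩

/-- on an affine open, only coboundaries die -/
theorem ex_of_π'_eq_zero {V : Y.Opens} (hV : IsAffineOpen V) (n : ℕ)
    (x : Γ(R.Z (n + 1), f ⁻¹ᵁ V)) (h : R.π' f n V x = 0) : R.Ex (n + 1) _ x := by
  choose W hW hyW hex using fun (y : Y) (hy : y ∈ V) ↦ R.exists_locally_ex f n h y hy
  obtain ⟨ι, U, ⟨-, hfin, g, hU, hcov⟩, hle⟩ := (affCov Y).refine' hV W hyW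
  subst hU
  have hN : ∀ i, ∃ N : ℕ, R.Ex (n + 1) _ (f.app V (g i) ^ N • x) := by
    intro i
    obtain ⟨p, hp, hle'⟩ := hle i
    refine R.exists_pow_ex f hV (g i) n x ?_
    have := (hex p hp).res (f.preimage_mono hle')
    rwa [QCoh.res_res] at this
  choose N hN using hN
  cases nonempty_fintype ι
  have hspan : Ideal.span (Set.range g) = ⊤ := by
    rw [← IsAffineOpen.iSup_basicOpen_eq_self_iff (X := Y) hV]
    exact le_antisymm (iSup_le fun i ↦ Y.basicOpen_le _)
      (hcov.ge.trans (iSup_le fun i ↦ le_iSup_of_le ⟨g i, i, rfl⟩ le_rfl))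
  obtain ⟨a, ha⟩ := Ideal.mem_span_range_iff_exists_fun.1
    ((span_range_pow_eq_top' g hspan N).ge Submodule.mem_top : (1 : Γ(Y, V)) ∈ _)
  have hx : x = ∑ i, f.app V (a i) • (f.app V (g i) ^ N i • x) := by
    simp only [smul_smul, ← map_pow, ← map_mul, ← Finset.sum_smul, ← map_sum, ha, map_one, one_smul]
  rw [hx]
  exact Finset.sum_induction _ (R.Ex (n + 1) _) (fun _ _ ↦ Ex.add) (Ex.zero _ _)
    fun i _ ↦ (hN i).smul _

/-- on an affine open, every section of the higher direct image is a class -/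
theorem π'_surjective {V : Y.Opens} (hV : IsAffineOpen V) (n : ℕ) :
    Function.Surjective (R.π' f n V) := by
  intro r
  choose W hW hyW x hx using fun (y : Y) (hy : y ∈ V) ↦ R.exists_locally_π' f n r y hy
  obtain ⟨ι, U, ⟨-, hfin, g, hU, hcov⟩, hle⟩ := (affCov Y).refine' hV W hyW
  subst hU
  have hcov' : (⨆ i, Y.basicOpen (g i)) = V := hcov
  have hle₀ : ∀ i, Y.basicOpen (g i) ≤ V := fun i ↦ Y.basicOpen_le _
  have hx' : ∀ i, ∃ xi, R.π' f n _ xi = rs (R.Rc f n) (hle₀ i) r := by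
    intro i
    obtain ⟨p, hp, hle'⟩ := hle i
    refine ⟨rs _ (f.preimage_mono hle') (x p hp), ?_⟩
    rw [← π'_res R f n hle', hx, QCoh.res_res]
  choose xi hxi using hx'
  cases nonempty_fintype ι
  -- extend the classes up to powers
  have hw : ∀ i, ∃ (N : ℕ) (w : Γ(R.Z (n + 1), f ⁻¹ᵁ V)),
      rs (R.Rc f n) (hle₀ i) (R.π' f n V w) = rr (hle₀ i) (g i) ^ N • rs (R.Rc f n) (hle₀ i) r := by
    intro i
    obtain ⟨N, w, hw⟩ := (R.loc_preimage f hV (g i) (n + 1)).surj
      (rs _ (preimage_basicOpen_eq f (g i)).le (xi i))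
    refine ⟨N, w, ?_⟩
    have h0 := π'_eq_zero_of_ex R f n (hw.res (preimage_basicOpen_eq f (g i)).ge)
    rw [map_sub, map_sub, sub_eq_zero, QCoh.res_res, QCoh.res_smul, map_pow, rres_rres,
      QCoh.res_res, QCoh.res_self, res_smul' R f n (hle₀ i), hxi] at h0
    rw [π'_res]
    exact h0
  choose N w hw using hw
  -- the defects are killed by powers
  have hδ : ∀ i, ∃ M : ℕ, g i ^ M • (R.π' f n V (w i) - g i ^ N i • r) = 0 := by
    intro i
    have hj : ∀ j, ∃ M : ℕ, rr (hle₀ j) (g i) ^ M •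
        rs (R.Rc f n) (hle₀ j) (R.π' f n V (w i) - g i ^ N i • r) = 0 := by
      intro j
      have hA : IsAffineOpen (Y.basicOpen (g j)) := hV.basicOpen _
      let gi : Γ(Y, Y.basicOpen (g j)) := rr (hle₀ j) (g i)
      let d : Γ(R.Z (n + 1), f ⁻¹ᵁ Y.basicOpen (g j)) :=
        rs _ (f.preimage_mono (hle₀ j)) (w i) - f.app _ gi ^ N i • xi j
      have hd : R.π' f n _ d = rs (R.Rc f n) (hle₀ j) (R.π' f n V (w i) - g i ^ N i • r) := by
        rw [map_sub, map_sub, QCoh.res_smul, map_pow, π'_res, ← map_pow (f.app _).hom, π'_smul, hxi]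
      have hd0 : R.π' f n _ (rs _ (f.preimage_mono (Y.basicOpen_le gi)) d) = 0 := by
        rw [← π'_res R f n (Y.basicOpen_le gi), hd, QCoh.res_res]
        have hle2 : Y.basicOpen gi ≤ Y.basicOpen (g i) := by
          rw [Y.basicOpen_res]
          exact inf_le_right
        have h1 := congrArg (rs (R.Rc f n) hle2) (hw i)
        rw [QCoh.res_res, QCoh.res_smul, map_pow, rres_rres, QCoh.res_res] at h1
        rw [map_sub, QCoh.res_smul, map_pow, sub_eq_zero]
        exact h1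
      obtain ⟨M, hM⟩ := R.exists_pow_ex f hA gi n d
        (R.ex_of_π'_eq_zero f (hA.basicOpen gi) n _ hd0)
      refine ⟨M, ?_⟩
      have := π'_eq_zero_of_ex R f n hM
      rwa [← map_pow, π'_smul, hd] at this
    choose M hM using hj
    refine ⟨Finset.univ.sup M, ?_⟩
    refine QCoh.eq_zero_of_locally_eq_zero (R.Rc f n) hle₀ hcov'.ge _ fun j ↦ ?_
    obtain ⟨d, hd⟩ := Nat.exists_eq_add_of_le' (Finset.le_sup (f := M) (Finset.mem_univ j))
    rw [QCoh.res_smul, map_pow, hd, pow_add, mul_smul, hM, smul_zero]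
  choose M hM using hδ
  have hspan : Ideal.span (Set.range g) = ⊤ := by
    rw [← IsAffineOpen.iSup_basicOpen_eq_self_iff (X := Y) hV]
    exact le_antisymm (iSup_le fun i ↦ Y.basicOpen_le _)
      (hcov'.ge.trans (iSup_le fun i ↦ le_iSup_of_le ⟨g i, i, rfl⟩ le_rfl))
  obtain ⟨a, ha⟩ := Ideal.mem_span_range_iff_exists_fun.1
    ((span_range_pow_eq_top' g hspan (fun i ↦ M i + N i)).ge Submodule.mem_top :
      (1 : Γ(Y, V)) ∈ _)
  refine ⟨∑ i, f.app V (a i * g i ^ M i) • w i, ?_⟩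
  rw [map_sum]
  have hi : ∀ i, R.π' f n V (f.app V (a i * g i ^ M i) • w i) = (a i * g i ^ (M i + N i)) • r := by
    intro i
    have h1 := hM i
    rw [smul_sub, sub_eq_zero, smul_smul, ← pow_add] at h1
    rw [π'_smul, mul_smul, h1, smul_smul]
  simp only [hi, ← Finset.sum_smul, ha, one_smul]

/-- the model of `R^(n+1) f_*` is quasi-coherent -/
theorem isQuasicoherent_Rc (n : ℕ) : (R.Rc f n).IsQuasicoherent := by
  rw [QCoh.isQuasicoherent_iff_forall_isAffineOpen]
  intro V hV g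
  refine ⟨fun s ↦ ?_, fun t ht ↦ ?_⟩
  · obtain ⟨x, rfl⟩ := R.π'_surjective f (hV.basicOpen g) n s
    obtain ⟨N, w, hw⟩ := (R.loc_preimage f hV g (n + 1)).surj
      (rs _ (preimage_basicOpen_eq f g).le x)
    refine ⟨N, R.π' f n V w, ?_⟩
    have h0 := π'_eq_zero_of_ex R f n (hw.res (preimage_basicOpen_eq f g).ge)
    rw [map_sub, map_sub, sub_eq_zero, QCoh.res_res, QCoh.res_smul, map_pow, rres_rres,
      QCoh.res_res, QCoh.res_self, res_smul' R f n (Y.basicOpen_le g)] at h0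
    rw [π'_res]
    exact h0
  · obtain ⟨x, rfl⟩ := R.π'_surjective f hV n t
    rw [π'_res] at ht
    obtain ⟨N, hN⟩ := R.exists_pow_ex f hV g n x (R.ex_of_π'_eq_zero f (hV.basicOpen g) n _ ht)
    refine ⟨N, ?_⟩
    have := π'_eq_zero_of_ex R f n hN
    rwa [← map_pow, π'_smul] at this

omit hq [QuasiCompact f] [QuasiSeparated f] in
lemma isZero_Rc_of_van {n : ℕ} (h : ∀ V : Y.Opens, IsAffineOpen V → R.Van (n + 1) (f ⁻¹ᵁ V)) :
    IsZero (R.Rc f n) := by
  refine (IsZero.iff_id_eq_zero _).2 (Scheme.Modules.hom_ext _ _ fun V ↦ ?_)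
  ext r
  change r = 0
  choose W hW hyW x hx using fun (y : Y) (hy : y ∈ V) ↦ R.exists_locally_π' f n r y hy
  choose A hA hyA hAW using fun (y : Y) (hy : y ∈ V) ↦
    (Y.isBasis_affineOpens.exists_subset_of_mem_open (hyW y hy) (W y hy).2)
  choose A' hA' hAA' using hA
  refine QCoh.eq_zero_of_locally_eq_zero (R.Rc f n) (U := fun y : V ↦ A' y.1 y.2) (fun y ↦ ?_) ?_ r
    fun y ↦ ?_
  · exact (SetLike.coe_subset_coe.1 ((hAA' y.1 y.2).subset.trans (hAW y.1 y.2))).trans (hW y.1 y.2)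
  · intro y hy
    refine Opens.mem_iSup.2 ⟨⟨y, hy⟩, ?_⟩
    have := hyA y hy
    rw [← hAA' y hy] at this
    exact this
  · have h1 : A' y.1 y.2 ≤ W y.1 y.2 :=
      SetLike.coe_subset_coe.1 ((hAA' y.1 y.2).subset.trans (hAW y.1 y.2))
    rw [← QCoh.res_res (R.Rc f n) (hW y.1 y.2) h1, ← hx, π'_res]
    exact π'_eq_zero_of_ex R f n (h _ (hA' y.1 y.2) _)

end Qcqs

end FRes

section Resolution

open CategoryTheory.InjectiveResolution in
/-- the flasque resolution underlying an injective resolution -/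
noncomputable def fresOf {M : X.Modules} (I : InjectiveResolution M) : FRes X where
  Z n := I.cocomplex.cycles n
  J n := I.cocomplex.X n
  ι n := I.cocomplex.iCycles n
  p n := I.cocomplex.toCycles n (n + 1)
  w n := by rw [← cancel_mono (I.cocomplex.iCycles (n + 1))]; simp
  exact n := by
    have hz : IsZero (I.cocomplex.homology (n + 1)) :=
      (I.cocomplex.exactAt_iff_isZero_homology (n + 1)).1
        (ModShf.AcyclicRes.Res.exactAt_succ ⟨I.cocomplex, I.ι, inferInstance⟩ n)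
    have hepi : Epi (I.cocomplex.toCycles n (n + 1)) :=
      Preadditive.epi_of_cancel_zero _ fun g hg ↦ by
        obtain ⟨l, hl⟩ := CokernelCofork.IsColimit.desc'
          (I.cocomplex.homologyIsCokernel n (n + 1) (by simp)) g hg
        rw [← hl]
        exact (congrArg (· ≫ l) (hz.eq_of_tgt _ 0)).trans zero_comp
    refine ShortComplex.ShortExact.mk' ?_ inferInstance hepi
    apply ShortComplex.exact_of_f_is_kernel
    refine KernelFork.IsLimit.ofι' _ _ fun k hk ↦ ⟨I.cocomplex.liftCycles k (n + 1) (by simp)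
      (by simpa using congrArg (· ≫ I.cocomplex.iCycles (n + 1)) hk),
        I.cocomplex.liftCycles_i _ _ _ _⟩
  flasque n := ModShf.isFlasque_toAb_of_injective _ (I.injective n)

/-- degree zero cocycles are the module itself -/
noncomputable def fresOfZ0Iso {M : X.Modules} (I : InjectiveResolution M) :
    (fresOf I).Z 0 ≅ M :=
  IsLimit.conePointUniqueUpToIso (I.cocomplex.cyclesIsKernel 0 1 (by simp))
    (ModShf.AcyclicRes.Res.isLimitKernelFork ⟨I.cocomplex, I.ι, inferInstance⟩)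

lemma fresOf_isQuasicoherent {M : X.Modules} [hM : M.IsQuasicoherent] (I : InjectiveResolution M) :
    ((fresOf I).Z 0).IsQuasicoherent :=
  QCoh.isQuasicoherent_of_iso (fresOfZ0Iso I).symm

variable (f : X ⟶ Y)

instance pushPreservesFiniteLimits : PreservesFiniteLimits (Scheme.Modules.pushforward f) :=
  ⟨fun K _ _ ↦ ((Scheme.Modules.pullbackPushforwardAdjunction f).rightAdjoint_preservesLimits.preservesLimitsOfShape :
    PreservesLimitsOfShape K (Scheme.Modules.pushforward f))⟩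

/-- `R^(n+1) f_*` is the model computed from a resolution -/
noncomputable def rpushSuccIso [HasInjectiveResolutions X.Modules] {M : X.Modules}
    (I : InjectiveResolution M) (n : ℕ) :
    (Coh.Rpush f (n + 1)).obj M ≅ (fresOf I).Rc f n :=
  let F := Scheme.Modules.pushforward f
  let K := (F.mapHomologicalComplex (ComplexShape.up ℕ)).obj I.cocomplex
  let hk : IsLimit (KernelFork.ofι (F.map (I.cocomplex.iCycles (n + 1)))
      (show F.map (I.cocomplex.iCycles (n + 1)) ≫ K.d (n + 1) (n + 2) = 0 by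
        change F.map _ ≫ F.map _ = 0
        rw [← F.map_comp, HomologicalComplex.iCycles_d, F.map_zero])) :=
    KernelFork.mapIsLimit _ (I.cocomplex.cyclesIsKernel (n + 1) (n + 2) (by simp)) F
  let e : K.cycles (n + 1) ≅ F.obj (I.cocomplex.cycles (n + 1)) :=
    IsLimit.conePointUniqueUpToIso (K.cyclesIsKernel (n + 1) (n + 2) (by simp)) hk
  have he : K.toCycles n (n + 1) ≫ e.hom = (𝟙 _) ≫ F.map (I.cocomplex.toCycles n (n + 1)) := by
    refine Fork.IsLimit.hom_ext hk ?_
    have h1 : e.hom ≫ F.map (I.cocomplex.iCycles (n + 1)) = K.iCycles (n + 1) :=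
      IsLimit.conePointUniqueUpToIso_hom_comp (K.cyclesIsKernel (n + 1) (n + 2) (by simp)) hk
        WalkingParallelPair.zero
    change (K.toCycles n (n + 1) ≫ e.hom) ≫ F.map (I.cocomplex.iCycles (n + 1)) = _
    refine (Category.assoc _ _ _).trans ((congrArg (K.toCycles n (n + 1) ≫ ·) h1).trans ?_)
    refine (HomologicalComplex.toCycles_i K n (n + 1)).trans ?_
    change F.map (I.cocomplex.d n (n + 1)) = _
    rw [Category.id_comp, ← HomologicalComplex.toCycles_i I.cocomplex n (n + 1), F.map_comp]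
    rfl
  I.isoRightDerivedObj F (n + 1) ≪≫
    (IsColimit.coconePointUniqueUpToIso (K.homologyIsCokernel n (n + 1) (by simp))
      (cokernelIsCokernel (K.toCycles n (n + 1)))) ≪≫
    cokernel.mapIso (K.toCycles n (n + 1)) (F.map (I.cocomplex.toCycles n (n + 1)))
      (Iso.refl _) e he

end Resolution

end Groth.Agent.CohAff
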