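import Groth.Agent.CohAff.Cartan
import Mathlib.AlgebraicGeometry.Modules.Tilde
import Mathlib.AlgebraicGeometry.AffineScheme

/-!
# Sections of quasi-coherent modules over affine opens
-/

universe u

open CategoryTheory Limits Opposite TopologicalSpace AlgebraicGeometry

namespace Groth.Agent.CohAff

variable {X : Scheme.{u}} (M : X.Modules)

/-- restriction of sections of a module -/
noncomputable abbrev mres {U V : X.Opens} (h : V ≤ U) : Γ(M, U) →+ Γ(M, V) :=
  res (X := X.toPresheafedSpace.carrier) M.presheaf h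

/-- restriction of functions -/
noncomputable abbrev rres (X : Scheme.{u}) {U V : X.Opens} (h : V ≤ U) : Γ(X, U) →+* Γ(X, V) :=
  (X.presheaf.map (homOfLE h).op).hom

lemma mres_smul {U V : X.Opens} (h : V ≤ U) (r : Γ(X, U)) (s : Γ(M, U)) :
    mres M h (r • s) = rres X h r • mres M h s :=
  Scheme.Modules.map_smul M (homOfLE h) r s

lemma rres_rres {U V W : X.Opens} (h : V ≤ U) (h' : W ≤ V) (r : Γ(X, U)) :
    rres X h' (rres X h r) = rres X (h'.trans h) r := by
  change (X.presheaf.map _ ≫ X.presheaf.map _).hom r = _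
  rw [← Functor.map_comp]
  rfl

@[simp] lemma rres_self {U : X.Opens} (h : U ≤ U) (r : Γ(X, U)) : rres X h r = r := by
  change (X.presheaf.map (homOfLE h).op).hom r = _
  have : (homOfLE h).op = 𝟙 (op U) := rfl
  rw [this, X.presheaf.map_id]
  rfl

lemma fromSpec_image_le {V : X.Opens} (hV : IsAffineOpen V) (W : (Spec Γ(X, V)).Opens) :
    hV.fromSpec ''ᵁ W ≤ V := by
  conv_rhs => rw [← hV.opensRange_fromSpec]
  exact hV.fromSpec.image_le_opensRange W

lemma rres_fromSpec {V : X.Opens} (hV : IsAffineOpen V) (W : (Spec Γ(X, V)).Opens) (r : Γ(X, V)) :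
    rres X (fromSpec_image_le hV W) r =
      (hV.fromSpec.appIso W).inv.hom
        (((Spec Γ(X, V)).presheaf.map W.leTop.op).hom ((Scheme.ΓSpecIso Γ(X, V)).inv.hom r)) := by
  have h : X.presheaf.map (homOfLE (fromSpec_image_le hV W)).op ≫ (hV.fromSpec.appIso W).hom =
      (Scheme.ΓSpecIso Γ(X, V)).inv ≫ (Spec Γ(X, V)).presheaf.map W.leTop.op := by
    rw [Scheme.Hom.appIso_hom', Scheme.Hom.map_appLE, Scheme.Hom.appLE, hV.fromSpec_app_self,
      Category.assoc, ← Functor.map_comp]
    rfl
  rw [← CategoryTheory.Iso.eq_comp_inv] at h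
  exact congr($h r)

/-- the scalar action on the pullback of a module to `Spec Γ(X, V)` -/
lemma smul_fromSpec {V : X.Opens} (hV : IsAffineOpen V) (W : (Spec Γ(X, V)).Opens) (r : Γ(X, V))
    (x : Γ(M.restrict hV.fromSpec, W)) :
    (M.restrictAppIso hV.fromSpec W).hom (r • x) =
      rres X (fromSpec_image_le hV W) r • (M.restrictAppIso hV.fromSpec W).hom x := by
  rw [rres_fromSpec, Scheme.Modules.smul_Spec_def]
  exact Scheme.Modules.smul_restrictAppIso_hom_apply _ _ _ _ x

section Spec

variable {R : CommRingCat.{u}} (N : (Spec R).Modules) [N.IsQuasicoherent]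

set_option maxHeartbeats 200000 in
/-- the localization map on sections of a quasi-coherent module on `Spec R` -/
lemma spec_exists_extend (f : R) (s : Γ(N, PrimeSpectrum.basicOpen f)) :
    ∃ (n : ℕ) (t : Γ(N, (⊤ : (Spec R).Opens))),
      N.presheaf.map (PrimeSpectrum.basicOpen f).leTop.op t = f ^ n • s := by
  let φ := ((modulesSpecToSheaf.obj N).obj.map (PrimeSpectrum.basicOpen f).leTop.op).hom
  have hf : IsLocalizedModule.Away f φ :=
    (isIso_fromTildeΓ_iff_isLocalizing N).1 inferInstance f
  obtain ⟨n, y, hy⟩ := hf.surj _ _ s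
  use n, y, hy.symm

set_option maxHeartbeats 200000 in
/-- sections vanishing on a basic open of `Spec R` are killed by a power -/
lemma spec_exists_pow_smul_eq_zero (f : R) (t : Γ(N, (⊤ : (Spec R).Opens)))
    (h : N.presheaf.map (PrimeSpectrum.basicOpen f).leTop.op t = 0) :
    ∃ n : ℕ, f ^ n • t = 0 := by
  let φ := ((modulesSpecToSheaf.obj N).obj.map (PrimeSpectrum.basicOpen f).leTop.op).hom
  have hf : IsLocalizedModule.Away f φ :=
    (isIso_fromTildeΓ_iff_isLocalizing N).1 inferInstance f
  obtain ⟨⟨_, n, rfl⟩, hn⟩ := (IsLocalizedModule.eq_zero_iff (.powers f) φ).mp h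
  use n, hn

end Spec

section Loc

variable [hM : M.IsQuasicoherent] {V : X.Opens} (hV : IsAffineOpen V)

include hM hV

set_option maxHeartbeats 400000 in
/-- on an affine open, sections on a basic open are extended up to a power -/
theorem exists_extend (f : Γ(X, V)) (s : Γ(M, X.basicOpen f)) :
    ∃ (n : ℕ) (t : Γ(M, V)),
      mres M (X.basicOpen_le f) t = rres X (X.basicOpen_le f) f ^ n • s := by
  have him : hV.fromSpec ''ᵁ PrimeSpectrum.basicOpen f = X.basicOpen f :=
    hV.fromSpec_image_basicOpen f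
  have htop : hV.fromSpec ''ᵁ ⊤ = V := by
    rw [Scheme.Hom.image_top_eq_opensRange, hV.opensRange_fromSpec]
  obtain ⟨n, t', ht⟩ := spec_exists_extend (M.restrict hV.fromSpec) f
    ((M.restrictAppIso hV.fromSpec _).inv (mres M him.le s))
  refine ⟨n, mres M htop.ge ((M.restrictAppIso hV.fromSpec ⊤).hom t'), ?_⟩
  have ht' := congrArg (M.restrictAppIso hV.fromSpec _).hom ht
  rw [Scheme.Modules.map_restrictAppIso_hom_apply, smul_fromSpec, Iso.inv_hom_id_apply] at ht'
  have := congrArg (mres M him.ge) ht'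
  rw [mres_smul, res_res, res_self, rres_rres, map_pow] at this
  rw [res_res, ← this]
  exact (res_res (X := X.toPresheafedSpace.carrier) M.presheaf _ _ _).symm

set_option maxHeartbeats 400000 in
/-- on an affine open, a section vanishing on a basic open is killed by a power -/
theorem exists_pow_smul_eq_zero (f : Γ(X, V)) (t : Γ(M, V))
    (h : mres M (X.basicOpen_le f) t = 0) : ∃ n : ℕ, f ^ n • t = 0 := by
  have him : hV.fromSpec ''ᵁ PrimeSpectrum.basicOpen f = X.basicOpen f :=
    hV.fromSpec_image_basicOpen f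
  have htop : hV.fromSpec ''ᵁ ⊤ = V := by
    rw [Scheme.Hom.image_top_eq_opensRange, hV.opensRange_fromSpec]
  let α := M.restrictAppIso hV.fromSpec ⊤
  obtain ⟨n, hn⟩ := spec_exists_pow_smul_eq_zero (M.restrict hV.fromSpec) f
    (α.inv (mres M htop.le t)) (by
      apply (ConcreteCategory.bijective_of_isIso (M.restrictAppIso hV.fromSpec _).hom).1
      rw [Scheme.Modules.map_restrictAppIso_hom_apply, Iso.inv_hom_id_apply, map_zero]
      have := congrArg (mres M him.le) h
      rw [res_res, map_zero] at this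
      change mres M _ (mres M htop.le t) = 0
      rwa [res_res])
  refine ⟨n, ?_⟩
  have hn' := congrArg α.hom hn
  rw [smul_fromSpec, Iso.inv_hom_id_apply, map_zero] at hn'
  have := congrArg (mres M htop.ge) hn'
  rwa [mres_smul, rres_rres, res_res, res_self, rres_self, map_zero] at this

end Loc

end Groth.Agent.CohAff
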