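import Groth.Agent.CohAff.Resolution

/-!
# Localisation and vanishing of cohomology on quasi-compact opens
-/

universe u

open CategoryTheory Limits Opposite TopologicalSpace AlgebraicGeometry

namespace Groth.Agent.CohAff

variable {X : Scheme.{u}}

/-- induction on compact opens of a quasi-separated open -/
theorem compact_le_induction {X₀ : X.Opens} (hqs : IsQuasiSeparated (X₀ : Set X))
    (P : ∀ W : X.Opens, W ≤ X₀ → Prop)
    (h₁ : ∀ (A : X.Opens) (h : A ≤ X₀), IsAffineOpen A → P A h)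
    (h₂ : ∀ (U V : X.Opens) (h : U ⊔ V ≤ X₀), IsCompact (U : Set X) → IsCompact (V : Set X) →
      P U (le_sup_left.trans h) → P V (le_sup_right.trans h) →
      P (U ⊓ V) (inf_le_left.trans (le_sup_left.trans h)) → P (U ⊔ V) h)
    (W : X.Opens) (hW : W ≤ X₀) (hc : IsCompact (W : Set X)) : P W hW := by
  classical
  have congrP : ∀ {W W' : X.Opens} (_ : W = W') (h : W ≤ X₀) (h' : W' ≤ X₀), P W h → P W' h' := by
    rintro W W' rfl h h' hh
    exact hh
  -- finite unions of basic opens of an affine open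
  have key : ∀ {A : X.Opens} (hA : IsAffineOpen A), A ≤ X₀ → ∀ (s : Finset Γ(X, A))
      (h : s.sup (fun g ↦ X.basicOpen g) ≤ X₀), P (s.sup fun g ↦ X.basicOpen g) h := by
    intro A hA hA₀ s
    suffices H : ∀ k, ∀ (s : Finset Γ(X, A)), s.card = k → ∀ (h : s.sup (fun g ↦ X.basicOpen g) ≤ X₀),
        P (s.sup fun g ↦ X.basicOpen g) h from H _ s rfl
    intro k
    induction k using Nat.strongRecOn with
    | _ k ih => ?_
    intro s h
    intro hle
    rcases s.eq_empty_or_nonempty with rfl | ⟨g, hg⟩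
    · exact congrP Finset.sup_empty.symm bot_le hle (h₁ ⊥ bot_le (isAffineOpen_bot X))
    have e : s.sup (fun g ↦ X.basicOpen g) =
        (s.erase g).sup (fun g ↦ X.basicOpen g) ⊔ X.basicOpen g := by
      conv_lhs => rw [← Finset.insert_erase hg, Finset.sup_insert, sup_comm]
    have hlt : (s.erase g).card < k := h ▸ Finset.card_erase_lt_of_mem hg
    refine congrP e.symm (e ▸ hle) hle (h₂ _ _ _ ?_ (hA.basicOpen g).isCompact
      (ih _ hlt _ rfl _) (h₁ _ _ (hA.basicOpen g)) ?_)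
    · rw [Finset.sup_eq_iSup, Opens.coe_iSup]
      simp only [Opens.coe_iSup]
      exact (s.erase g).isCompact_biUnion fun i _ ↦ (hA.basicOpen i).isCompact
    · have e' : (s.erase g).sup (fun g ↦ X.basicOpen g) ⊓ X.basicOpen g =
          ((s.erase g).image (· * g)).sup (fun g ↦ X.basicOpen g) := by
        rw [Finset.sup_image, Finset.sup_inf_distrib_right]
        exact Finset.sup_congr rfl fun i _ ↦ (X.basicOpen_mul i g).symm
      exact congrP e'.symm (e' ▸ inf_le_left.trans (le_sup_left.trans (e ▸ hle))) _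
        (ih _ (Finset.card_image_le.trans_lt hlt) _ rfl _)
  have small : ∀ (A W : X.Opens) (_ : IsAffineOpen A) (_ : A ≤ X₀) (_ : IsCompact (W : Set X))
      (_ : W ≤ A) (hW₀ : W ≤ X₀), P W hW₀ := by
    intro A W hA hA₀ hW hle hW₀
    choose g hgle hgmem using fun x : W ↦ hA.exists_basicOpen_le ⟨x.1, x.2⟩ (hle x.2)
    obtain ⟨t, ht⟩ := hW.elim_finite_subcover (fun x : W ↦ (X.basicOpen (g x) : Set X))
      (fun x ↦ (X.basicOpen (g x)).isOpen) (fun x hx ↦ Set.mem_iUnion.2 ⟨⟨x, hx⟩, hgmem ⟨x, hx⟩⟩)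
    have e : (t.image g).sup (fun g ↦ X.basicOpen g) = W := by
      refine le_antisymm (Finset.sup_le fun r hr ↦ ?_) fun x hx ↦ ?_
      · obtain ⟨x, -, rfl⟩ := Finset.mem_image.1 hr
        exact hgle x
      · obtain ⟨y, hy, hxy⟩ := Set.mem_iUnion₂.1 (ht hx)
        exact (Finset.le_sup (f := fun g ↦ X.basicOpen g) (Finset.mem_image_of_mem g hy) :
          X.basicOpen (g y) ≤ _) hxy
    exact congrP e (e.le.trans hW₀) hW₀ (key hA hA₀ _ _)
  obtain ⟨s, hs, e⟩ := isCompact_iff_finite_and_eq_biUnion_affineOpens.mp hc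
  suffices H : ∀ (t : Finset X.affineOpens) (h : t.sup (fun A ↦ (A : X.Opens)) ≤ X₀),
      P (t.sup fun A ↦ (A : X.Opens)) h by
    have e' : hs.toFinset.sup (fun A ↦ (A : X.Opens)) = W := by
      rw [Finset.sup_eq_iSup, e]
      simp only [Set.Finite.mem_toFinset]
    exact congrP e' (e'.le.trans hW) hW (H _ _)
  intro t
  induction t using Finset.induction_on with
  | empty =>
    intro h
    exact congrP Finset.sup_empty.symm bot_le h (h₁ ⊥ bot_le (isAffineOpen_bot X))
  | insert a t _ ih =>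
    intro h
    have e'' := Finset.sup_insert (s := t) (b := a) (f := fun A : X.affineOpens ↦ (A : X.Opens))
    have h' : (a : X.Opens) ⊔ t.sup (fun A : X.affineOpens ↦ (A : X.Opens)) ≤ X₀ := e'' ▸ h
    have hct : IsCompact ((t.sup fun A : X.affineOpens ↦ (A : X.Opens) : X.Opens) : Set X) := by
      rw [Finset.sup_eq_iSup, Opens.coe_iSup]
      simp only [Opens.coe_iSup]
      exact t.isCompact_biUnion fun i _ ↦ i.2.isCompact
    refine congrP e''.symm h' h (h₂ _ _ h' a.2.isCompact hct (h₁ _ _ a.2)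
      (ih _) (small a _ a.2 (le_sup_left.trans h') ?_ inf_le_left _))
    rw [Opens.coe_inf]
    exact hqs _ _ (SetLike.coe_subset_coe.2 (le_sup_left.trans h')) (a : X.Opens).isOpen a.2.isCompact
      (SetLike.coe_subset_coe.2 (le_sup_right.trans h')) (Opens.isOpen _) hct

namespace FRes

variable (R : FRes X) [hq : (R.Z 0).IsQuasicoherent]

/-- cohomology commutes with localisation on qcqs opens -/
theorem loc_of_isCompact {X₀ : X.Opens} (hqs : IsQuasiSeparated (X₀ : Set X)) (g : Γ(X, X₀))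
    {W : X.Opens} (hW : W ≤ X₀) (hc : IsCompact (W : Set X)) (n : ℕ) : R.Loc n g W hW := by
  revert n
  refine compact_le_induction hqs (fun W h ↦ ∀ n, R.Loc n g W h) ?_ ?_ W hW hc
  · exact fun A h hA n ↦ loc_of_isAffineOpen g h hA n
  · intro U V h hU hV h₁ h₂ h₁₂
    refine Loc.sup g h ?_ (hqs.of_subset (SetLike.coe_subset_coe.2 h)) h₁ h₂ h₁₂
    rw [Opens.coe_sup]
    exact hU.union hV

end FRes

/-- a uniform bound for the vanishing of cohomology of quasi-coherent modules -/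
theorem exists_van_bound {X₀ : X.Opens} (hqs : IsQuasiSeparated (X₀ : Set X))
    (hc : IsCompact (X₀ : Set X)) :
    ∃ d : ℕ, ∀ (R : FRes X), (R.Z 0).IsQuasicoherent → ∀ n, d ≤ n → R.Van (n + 1) X₀ := by
  refine compact_le_induction hqs (fun W _ ↦ ∃ d : ℕ, ∀ (R : FRes X),
    (R.Z 0).IsQuasicoherent → ∀ n, d ≤ n → R.Van (n + 1) W) ?_ ?_ X₀ le_rfl hc
  · exact fun A _ hA ↦ ⟨0, fun R hq n _ ↦ FRes.van_succ_of_isAffineOpen (R := R) (hq := hq) hA n⟩
  · rintro U V - - - ⟨a, ha⟩ ⟨b, hb⟩ ⟨c, hc⟩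
    refine ⟨max a (max b c) + 1, fun R hq n hn ↦ ?_⟩
    obtain ⟨m, rfl⟩ := Nat.exists_eq_add_of_le' (Nat.one_le_iff_ne_zero.2 (by omega) : 1 ≤ n)
    exact (ha R hq _ (by omega)).sup (hb R hq _ (by omega)) (hc R hq m (by omega))

end Groth.Agent.CohAff
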